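import Cfsg.Agent.H51.Flavell.Tools
import Cfsg.Agent.Coprime.Action
import Cfsg.Agent.Coprime.Centralize
import Cfsg.Agent.H24.FPFAut
import Cfsg.Agent.S0227
import Cfsg.Agent.S0205
import Cfsg.Agent.Cores.PCore
import Cfsg.Agent.Cores.Basic

/-!
A perfect group `H = [H, R]` centralizing the fixed points of `R` on a group `L` of order prime to
`r` centralizes `L`.
-/

set_option autoImplicit false
set_option linter.style.haveILetI false
set_option linter.unusedSectionVars false

namespace Cfsg.Agent.H51.Flavell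

open Subgroup
open scoped commutatorElement

universe u

/-- The coprime module lemma. -/
def ModuleTrivial : Prop :=
  ∀ (X : Type u) [Group X] [Finite X] (R H V : Subgroup X) (r q : ℕ),
    r.Prime → q.Prime → Nat.card R = r → ¬ r ∣ Nat.card H → ¬ r ∣ Nat.card V →
    R ≤ normalizer (H : Set X) → R ≤ normalizer (V : Set X) → H ≤ normalizer (V : Set X) →
    ⁅H, H⁆ = H → ⁅H, R⁆ = H → ⁅V, V⁆ = ⊥ → (∀ v ∈ V, v ^ q = 1) →
    (∀ W : Subgroup X, W ≤ V → R ≤ normalizer (W : Set X) → H ≤ normalizer (W : Set X) →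
      W = ⊥ ∨ W = V) →
    V ⊓ centralizer (R : Set X) = ⊥ → ⁅V, H⁆ = ⊥

variable {X : Type u} [Group X] [Finite X]

theorem normalizer_map_char {L : Subgroup X} (N : Subgroup L) [N.Characteristic] :
    normalizer (L : Set X) ≤ normalizer ((N.map L.subtype : Subgroup X) : Set X) := by
  intro g hg
  rw [mem_normalizer_iff]
  have key : ∀ g ∈ normalizer (L : Set X), ∀ x ∈ N.map L.subtype,
      g * x * g⁻¹ ∈ N.map L.subtype := by
    intro g hg x hx
    obtain ⟨y, hy, rfl⟩ := hx
    have hc := (characteristic_iff_map_eq.mp (inferInstance : N.Characteristic))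
      (normalizerMonoidHom L ⟨g, hg⟩)
    refine ⟨normalizerMonoidHom L ⟨g, hg⟩ y, hc.le (mem_map_of_mem _ hy), ?_⟩
    simp [normalizerMonoidHom_apply_apply_coe]
  intro x
  refine ⟨key g hg x, fun h => ?_⟩
  have := key g⁻¹ (inv_mem hg) _ h
  simpa [mul_assoc] using this

/-- A perfect group acting through a solvable group of automorphisms acts trivially. -/
theorem commutator_eq_bot_of_image_solvable {L H : Subgroup X}
    (hHL : H ≤ normalizer (L : Set X)) (hperf : ⁅H, H⁆ = H) (C : Subgroup (MulAut L))
    (hC : Group.IsSolvable C)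
    (h : ∀ a : H, normalizerMonoidHom L ⟨a, hHL a.2⟩ ∈ C) : ⁅L, H⁆ = ⊥ := by
  let f : H →* MulAut L := (normalizerMonoidHom L).comp (inclusion hHL)
  haveI hp : Group.IsPerfect H := Subgroup.isPerfect_iff.mpr hperf
  have hrange : f.range ≤ C := by
    rintro _ ⟨a, rfl⟩
    exact h a
  haveI : Group.IsPerfect f.range :=
    Group.IsPerfect.ofSurjective (f := f.rangeRestrict) f.rangeRestrict_surjective
  haveI : Group.IsSolvable f.range :=
    Group.isSolvable_of_isSolvable_injective (Subgroup.inclusion_injective hrange)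
  have hsub : Subsingleton f.range := by
    by_contra hns
    rw [not_subsingleton_iff_nontrivial] at hns
    exact Group.IsPerfect.not_isSolvable f.range inferInstance
  rw [eq_bot_iff, commutator_le]
  intro l hl a ha
  have h1 : f ⟨a, ha⟩ = 1 :=
    congrArg Subtype.val (Subsingleton.elim (⟨f ⟨a, ha⟩, _, rfl⟩ : f.range) 1)
  have h2 := congrArg Subtype.val (DFunLike.congr_fun h1 (⟨l, hl⟩ : L))
  have h3 : a * l * a⁻¹ = l := by
    simpa [f, normalizerMonoidHom_apply_apply_coe] using h2
  rw [mem_bot, commutatorElement_eq_one_iff_mul_comm]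
  calc l * a = a * l * a⁻¹ * a := by rw [h3]
    _ = a * l := by simp

theorem not_dvd_of_le {r : ℕ} {A B : Subgroup X} (h : A ≤ B) (hB : ¬ r ∣ Nat.card B) :
    ¬ r ∣ Nat.card A :=
  fun hd => hB (hd.trans (card_dvd_of_le h))

theorem coprime_of_not_dvd {r : ℕ} (hr : r.Prime) {R K : Subgroup X} (hR : Nat.card R = r)
    (h : ¬ r ∣ Nat.card K) : (Nat.card R).Coprime (Nat.card K) :=
  hR ▸ hr.coprime_iff_not_dvd.mpr h

theorem isSolvable_of_card_prime {r : ℕ} (hr : r.Prime) {R : Subgroup X} (hR : Nat.card R = r) :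
    Group.IsSolvable R := by
  haveI : Fact r.Prime := ⟨hr⟩
  haveI := isCyclic_of_prime_card hR
  haveI : IsMulCommutative R := IsCyclic.isMulCommutative
  exact Coprime.isSolvable_of_isMulCommutative

/-- A group of order prime to `r` with fixed point free action of `R` is nilpotent. -/
theorem isNilpotent_of_fpf {r : ℕ} (hr : r.Prime) {R L : Subgroup X} (hR : Nat.card R = r)
    (hRL : R ≤ normalizer (L : Set X)) (hD : L ⊓ centralizer (R : Set X) = ⊥) :
    Group.IsNilpotent L := by
  obtain ⟨a, ha, -, hz, hpow⟩ := exists_generator hr hR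
  let e : MulAut L := normalizerMonoidHom L ⟨a, hRL ha⟩
  refine H24.FPFAut.main _ L rfl e.toMonoidHom ?_ r hr ?_
  · intro x hx
    have hx' : a * (x : X) * a⁻¹ = (x : X) := by
      simpa [e, normalizerMonoidHom_apply_apply_coe] using congrArg Subtype.val hx
    have : (x : X) ∈ L ⊓ centralizer (R : Set X) := by
      refine ⟨x.2, ?_⟩
      rw [← hz, zpowers_eq_closure, centralizer_closure]
      exact mem_centralizer_singleton_iff.mpr (mul_inv_eq_iff_eq_mul.mp hx').symm
    rw [hD, mem_bot] at this
    exact Subtype.ext this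
  · funext x
    apply Subtype.ext
    have : ∀ (n : ℕ) (x : L), (((e.toMonoidHom : L → L)^[n] x : L) : X) = a ^ n * x * (a ^ n)⁻¹ := by
      intro n
      induction n with
      | zero => intro x; simp
      | succ n ih =>
        intro x
        rw [Function.iterate_succ_apply', pow_succ']
        have : ∀ y : L, ((e.toMonoidHom y : L) : X) = a * y * a⁻¹ := fun y => by
          simp [e, normalizerMonoidHom_apply_apply_coe]
        rw [this, ih]
        simp [mul_assoc]
    rw [this, hpow]
    simp

theorem odd_normal_eq_bot {L : Subgroup X} (hne : L ≠ ⊥) (hperf : ⁅L, L⁆ = L)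
    (hchar : ∀ N : Subgroup L, N.Characteristic → N = ⊥ ∨ N = ⊤) :
    ∀ N : Subgroup L, N.Normal → Odd (Nat.card N) → N = ⊥ := by
  intro N hN hodd
  haveI : Fact (Nat.Prime 2) := ⟨Nat.prime_two⟩
  haveI := hN
  have hNle : N ≤ Cfsg.oddCore L := Cores.le_oddCore hodd
  rcases hchar (Cfsg.oddCore L) inferInstance with h | h
  · exact le_bot_iff.mp (h ▸ hNle)
  · exfalso
    have hoL : Odd (Nat.card L) := by
      have := Cores.odd_card_oddCore (G := L)
      rwa [h, card_top] at this
    haveI : Nontrivial L := (nontrivial_iff_ne_bot L).mpr hne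
    haveI : Group.IsPerfect L := Subgroup.isPerfect_iff.mpr hperf
    exact Group.IsPerfect.not_isSolvable L (S0205.result hoL)

section Main

variable {r : ℕ} {R L H : Subgroup X}

/-- The hypotheses of Lemma A. -/
structure Setup (r : ℕ) (R L H : Subgroup X) : Prop where
  hr : r.Prime
  hR : Nat.card R = r
  hL : ¬ r ∣ Nat.card L
  hH : ¬ r ∣ Nat.card H
  hRL : R ≤ normalizer (L : Set X)
  hHL : H ≤ normalizer (L : Set X)
  hRH : R ≤ normalizer (H : Set X)
  perf : ⁅H, H⁆ = H
  comm : ⁅H, R⁆ = H
  fixed : H ≤ centralizer ((L ⊓ centralizer (R : Set X) : Subgroup X) : Set X)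

/-- The conclusion of Lemma A for groups smaller than `n`. -/
def Below (n : ℕ) : Prop :=
  ∀ (Y : Type u) [Group Y] [Finite Y] (r : ℕ) (R L H : Subgroup Y),
    Setup r R L H → Nat.card L < n → ⁅L, H⁆ = ⊥

theorem setup_mono {N : Subgroup X} (h : Setup r R L H) (hNL : N ≤ L)
    (hRN : R ≤ normalizer (N : Set X)) (hHN : H ≤ normalizer (N : Set X)) : Setup r R N H :=
  { h with
    hL := not_dvd_of_le hNL h.hL
    hRL := hRN
    hHL := hHN
    fixed := h.fixed.trans (centralizer_le (inf_le_inf_right _ hNL)) }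

theorem smaller_trivial (h : Setup r R L H) (IH : Below.{u} (Nat.card L)) {N : Subgroup X}
    (hNL : N < L) (hRN : R ≤ normalizer (N : Set X)) (hHN : H ≤ normalizer (N : Set X)) :
    ⁅N, H⁆ = ⊥ := by
  refine IH X r R N H (setup_mono h hNL.le hRN hHN) ?_
  by_contra hc
  exact hNL.ne (eq_of_le_of_card_ge hNL.le (not_lt.mp hc))

theorem inf_centralizer_lt (h : ⁅L, H⁆ ≠ ⊥) : L ⊓ centralizer (H : Set X) < L :=
  lt_of_le_of_ne inf_le_left fun he =>
    h (commutator_eq_bot_iff_le_centralizer.mpr (inf_eq_left.mp he))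

theorem trivial_of_invariant (h : Setup r R L H) (IH : Below.{u} (Nat.card L)) {N : Subgroup X}
    (hN0 : N ≠ ⊥) (hNL : N < L) (hRN : R ≤ normalizer (N : Set X))
    (hHN : H ≤ normalizer (N : Set X)) (hLN : L ≤ normalizer (N : Set X)) : ⁅L, H⁆ = ⊥ := by
  have hNH : ⁅N, H⁆ = ⊥ := smaller_trivial h IH hNL hRN hHN
  set M := normalizer (N : Set X) with hM
  set N' : Subgroup M := N.subgroupOf M with hN'
  haveI : N'.Normal := normal_subgroupOf_of_le_normalizer le_rfl
  let p : M →* M ⧸ N' := QuotientGroup.mk' N'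
  have hker : ∀ x : M, p x = 1 ↔ (x : X) ∈ N := fun x => by
    rw [QuotientGroup.mk'_apply, QuotientGroup.eq_one_iff, hN', mem_subgroupOf]
  have hdvd : ∀ A : Subgroup X, A ≤ M → Nat.card ((A.subgroupOf M).map p) ∣ Nat.card A := by
    intro A hA
    have h1 := card_map_dvd (A.subgroupOf M) p
    rwa [Nat.card_congr (subgroupOfEquivOfLe hA).toEquiv] at h1
  have hmapn : ∀ A B : Subgroup X, B ≤ M → B ≤ normalizer (A : Set X) →
      (B.subgroupOf M).map p ≤ normalizer (((A.subgroupOf M).map p : Subgroup (M ⧸ N')) : Set _) := by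
    rintro A B - hBA _ ⟨b, hb, rfl⟩
    refine le_normalizer_map p (mem_map_of_mem p ?_)
    rw [mem_normalizer_iff]
    intro x
    simp only [mem_subgroupOf, Subgroup.coe_mul, Subgroup.coe_inv]
    exact mem_normalizer_iff.mp (hBA (mem_subgroupOf.mp hb)) x
  have hcomm : ∀ A B : Subgroup X, A ≤ M → B ≤ M →
      (⁅A, B⁆.subgroupOf M).map p = ⁅(A.subgroupOf M).map p, (B.subgroupOf M).map p⁆ := by
    intro A B hA hB
    rw [← map_commutator]
    congr 1
    apply map_injective M.subtype_injective
    rw [map_commutator, Components.map_subgroupOf hA, Components.map_subgroupOf hB,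
      Components.map_subgroupOf ((commutator_mono hA hB).trans (commutator_le_self M))]
  set R' := (R.subgroupOf M).map p with hR'
  set L' := (L.subgroupOf M).map p with hL'
  set H' := (H.subgroupOf M).map p with hH'
  have hrN : ¬ r ∣ Nat.card N := not_dvd_of_le hNL.le h.hL
  have hcardR : Nat.card R' = r := by
    have hinj : Function.Injective (p.comp (inclusion hRN)) := by
      rw [← MonoidHom.ker_eq_bot_iff, eq_bot_iff]
      intro x hx
      have hxN : (x : X) ∈ R ⊓ N := ⟨x.2, (hker _).mp hx⟩
      rw [Coprime.inf_eq_bot (coprime_of_not_dvd h.hr h.hR hrN), mem_bot] at hxN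
      exact mem_bot.mpr (Subtype.ext hxN)
    have hrange : (p.comp (inclusion hRN)).range = R' := by
      rw [MonoidHom.range_comp, inclusion_range]
    rw [← hrange, ← Nat.card_congr (MonoidHom.ofInjective hinj).toEquiv, h.hR]
  have hsetup : Setup r R' L' H' :=
    { hr := h.hr
      hR := hcardR
      hL := fun hd => h.hL (hd.trans (hdvd L hLN))
      hH := fun hd => h.hH (hd.trans (hdvd H hHN))
      hRL := hmapn L R hRN h.hRL
      hHL := hmapn L H hHN h.hHL
      hRH := hmapn H R hRN h.hRH
      perf := by rw [hH', ← hcomm H H hHN hHN, h.perf]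
      comm := by rw [hH', hR', ← hcomm H R hHN hRN, h.comm]
      fixed := by
        rintro _ ⟨a, ha, rfl⟩
        rw [mem_centralizer_iff]
        rintro _ ⟨⟨k, hk, rfl⟩, hkC⟩
        have hkL : (k : X) ∈ L := mem_subgroupOf.mp hk
        obtain ⟨c, hc, hcn⟩ := Coprime.exists_centralizer_mem_of_comm_mem h.hRL
          (coprime_of_not_dvd h.hr h.hR h.hL) (Or.inl (isSolvable_of_card_prime h.hr h.hR))
          hNL.le hLN hRN hkL (fun b hb => by
            have hbM : b ∈ M := hRN hb
            have hb' : p ⟨b, hbM⟩ ∈ R' := mem_map_of_mem p (mem_subgroupOf.mpr hb)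
            have hcm : p ⟨b, hbM⟩ * p k = p k * p ⟨b, hbM⟩ :=
              mem_centralizer_iff.mp hkC _ hb'
            have h1 : p (⟨b, hbM⟩ * k * (⟨b, hbM⟩ : M)⁻¹ * k⁻¹) = 1 := by
              simp only [map_mul, map_inv]
              rw [hcm]
              simp
            exact (hker _).mp h1)
        have hcM : c ∈ M := hLN hc.1
        have hpk : p k = p ⟨c, hcM⟩ := by
          rw [← inv_mul_eq_one, ← map_inv, ← map_mul]
          exact (hker _).mpr hcn
        have hac : (a : X) * c = c * a :=
          (mem_centralizer_iff.mp (h.fixed (mem_subgroupOf.mp ha)) c hc).symm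
        rw [hpk, ← map_mul, ← map_mul]
        exact congrArg p (Subtype.ext hac.symm) }
  have hlt : Nat.card L' < Nat.card L := by
    refine lt_of_le_of_ne (Nat.le_of_dvd Nat.card_pos (hdvd L hLN)) fun he => hN0 ?_
    have hrange : (p.comp (inclusion hLN)).range = L' := by
      rw [MonoidHom.range_comp, inclusion_range]
    have hker0 : (p.comp (inclusion hLN)).ker = ⊥ := by
      have h1 := card_eq_card_quotient_mul_card_subgroup (p.comp (inclusion hLN)).ker
      rw [Nat.card_congr (QuotientGroup.quotientKerEquivRange _).toEquiv, hrange, he] at h1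
      exact eq_bot_of_card_eq _ (by
        nlinarith [h1, (Nat.card_pos : 0 < Nat.card L)])
    rw [eq_bot_iff]
    intro x hx
    have hxk : (⟨x, hNL.le hx⟩ : L) ∈ (p.comp (inclusion hLN)).ker := (hker _).mpr hx
    rw [hker0, mem_bot] at hxk
    exact mem_bot.mpr (congrArg Subtype.val hxk)
  have hq : ⁅L', H'⁆ = ⊥ := IH _ r R' L' H' hsetup hlt
  have hLHN : ⁅L, H⁆ ≤ N := by
    intro x hx
    have hxM : x ∈ M := ((commutator_mono hLN hHN).trans (commutator_le_self M)) hx
    have h1 : p ⟨x, hxM⟩ ∈ (⁅L, H⁆.subgroupOf M).map p :=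
      mem_map_of_mem p (mem_subgroupOf.mpr hx)
    rw [hcomm L H hLN hHN, ← hL', ← hH', hq, mem_bot] at h1
    exact (hker _).mp h1
  refine Components.commutator_eq_bot_of_perfect' h.perf ?_
  rw [eq_bot_iff, ← hNH]
  exact commutator_mono hLHN le_rfl

theorem two_group_proper (hperf : ⁅L, L⁆ = L) (hne : L ≠ ⊥) {S : Subgroup X}
    (hS : IsPGroup 2 S) : L ≠ S := by
  rintro rfl
  haveI : Fact (Nat.Prime 2) := ⟨Nat.prime_two⟩
  haveI := hS.isNilpotent
  haveI : Nontrivial L := (nontrivial_iff_ne_bot L).mpr hne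
  haveI : Group.IsPerfect L := Subgroup.isPerfect_iff.mpr hperf
  exact Group.IsPerfect.not_isSolvable L inferInstance

/-- Case `|C_L(R)|` even. -/
theorem case_even (h : Setup r R L H) (IH : Below.{u} (Nat.card L)) (hperf : ⁅L, L⁆ = L)
    (hne : L ≠ ⊥) (hsimple : ∀ N : Subgroup X, N ≤ L → R ≤ normalizer (N : Set X) →
      H ≤ normalizer (N : Set X) → L ≤ normalizer (N : Set X) → N = ⊥ ∨ N = L)
    (hodd : ∀ N : Subgroup L, N.Normal → Odd (Nat.card N) → N = ⊥)
    (h2 : 2 ∣ Nat.card (L ⊓ centralizer (R : Set X) : Subgroup X)) : ⁅L, H⁆ = ⊥ := by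
  haveI : Fact (Nat.Prime 2) := ⟨Nat.prime_two⟩
  set M := L ⊓ centralizer (H : Set X) with hM
  have hDM : L ⊓ centralizer (R : Set X) ≤ M :=
    le_inf inf_le_left (le_centralizer_iff.mp h.fixed)
  have hRM : R ≤ normalizer (M : Set X) := normalizer_inf h.hRL (normalizer_centralizer h.hRH)
  have hrM : ¬ r ∣ Nat.card M := not_dvd_of_le inf_le_left h.hL
  obtain ⟨P, hP⟩ := Coprime.exists_invariant_sylow (K := M) hRM
    (coprime_of_not_dvd h.hr h.hR hrM) (Or.inl (isSolvable_of_card_prime h.hr h.hR)) 2
  set P' := (P : Subgroup M).map M.subtype with hP'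
  have hP'M : P' ≤ M := map_subtype_le _
  have hPne : P' ≠ ⊥ := by
    intro hb
    have hb' : (P : Subgroup M) = ⊥ := (map_eq_bot_iff_of_injective _ M.subtype_injective).mp hb
    exact P.ne_bot_of_dvd_card (h2.trans (card_dvd_of_le hDM)) hb'
  have hP2 : IsPGroup 2 P' := P.isPGroup'.map _
  have hHP : H ≤ normalizer (P' : Set X) :=
    Components.le_normalizer_of_commutator_eq_bot
      (commutator_eq_bot_iff_le_centralizer.mpr
        (le_centralizer_iff.mp (hP'M.trans inf_le_right)))
  have hN : ⁅L ⊓ normalizer (P' : Set X), H⁆ = ⊥ := by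
    refine smaller_trivial h IH (lt_of_le_of_ne inf_le_left fun he => ?_)
      (normalizer_inf h.hRL (normalizer_normalizer hP))
      (normalizer_inf h.hHL (normalizer_normalizer hHP))
    rcases hsimple P' (hP'M.trans inf_le_left) hP hHP (inf_eq_left.mp he) with hb | hb
    · exact hPne hb
    · exact two_group_proper hperf hne hP2 hb.symm
  -- `P'` is a Sylow subgroup of `L`
  obtain ⟨Q, hQ⟩ := (hP2.comap_of_injective L.subtype L.subtype_injective).exists_le_sylow
  set Q' := (Q : Subgroup L).map L.subtype with hQ'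
  have hPQ : P' ≤ Q' := by
    have := map_mono (f := L.subtype) hQ
    rwa [map_comap_eq_self (by rw [range_subtype]; exact hP'M.trans inf_le_left)] at this
  have hQ2 : IsPGroup 2 Q' := Q.isPGroup'.map _
  have hQP : Q' ≤ P' := by
    by_contra hc
    haveI := hQ2.isNilpotent
    have hlt : P'.subgroupOf Q' < ⊤ := lt_top_iff_ne_top.mpr fun ht => hc (subgroupOf_eq_top.mp ht)
    have hlt' := Group.normalizerCondition_of_isNilpotent (G := Q') _ hlt
    obtain ⟨x, hxN, hxP⟩ := SetLike.exists_of_lt hlt'
    have hxN' : (x : X) ∈ normalizer (P' : Set X) := by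
      rw [mem_normalizer_iff]
      intro y
      constructor
      · intro hy
        have := (mem_normalizer_iff.mp hxN ⟨y, hPQ hy⟩).mp (mem_subgroupOf.mpr hy)
        simpa [mem_subgroupOf] using this
      · intro hy
        have hyQ : y ∈ Q' := by
          have := mul_mem (mul_mem (inv_mem x.2) (hPQ hy)) x.2
          simpa [mul_assoc] using this
        exact (mem_normalizer_iff.mp hxN ⟨y, hyQ⟩).mpr (by simpa [mem_subgroupOf] using hy)
    -- the group generated by `P'` and `x` is a `2`-subgroup of `M`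
    set T := Q' ⊓ (L ⊓ normalizer (P' : Set X)) with hT
    have hTM : T ≤ M :=
      le_inf (inf_le_right.trans inf_le_left)
        (inf_le_right.trans (commutator_eq_bot_iff_le_centralizer.mp hN))
    have hPT : P' ≤ T := le_inf hPQ (le_inf (hP'M.trans inf_le_left) le_normalizer)
    have hTp : IsPGroup 2 (T.subgroupOf M) :=
      (hQ2.to_le inf_le_left).comap_of_injective M.subtype M.subtype_injective
    have heq := P.is_maximal' hTp (fun y hy => mem_subgroupOf.mpr (hPT (mem_map_of_mem _ hy)))
    have hxT : (x : X) ∈ T := ⟨x.2, ⟨map_subtype_le _ x.2, hxN'⟩⟩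
    have : (⟨(x : X), hTM hxT⟩ : M) ∈ (P : Subgroup M) := heq ▸ mem_subgroupOf.mpr hxT
    exact hxP (mem_subgroupOf.mpr (mem_map_of_mem M.subtype this))
  let C : Subgroup (MulAut L) := fixingSubgroup (MulAut L) ((Q : Subgroup L) : Set L)
  have hC := (S0227.result hodd Q C (fun φ => by
    simp [C, mem_fixingSubgroup_iff])).2
  refine commutator_eq_bot_of_image_solvable h.hHL h.perf C hC fun a => ?_
  refine (mem_fixingSubgroup_iff _).mpr fun s hs => Subtype.ext ?_
  have hsC : (s : X) ∈ centralizer (H : Set X) :=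
    (hQP (mem_map_of_mem _ hs) |> hP'M).2
  have := mem_centralizer_iff.mp hsC _ a.2
  show (a : X) * s * (a : X)⁻¹ = s
  rw [this, mul_inv_cancel_right]

/-- A group on which `R` acts with central fixed points is solvable. -/
theorem isSolvable_of_central_fixed {P0 : Subgroup X} (hr : r.Prime) (hR : Nat.card R = r)
    (hP : ¬ r ∣ Nat.card P0) (hRP : R ≤ normalizer (P0 : Set X))
    (hcent : P0 ⊓ centralizer (R : Set X) ≤ centralizer (P0 : Set X)) :
    Group.IsSolvable P0 := by
  set Z := (center P0) with hZ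
  set M := normalizer ((Z.map P0.subtype : Subgroup X) : Set X) with hMdef
  set N : Subgroup X := Z.map P0.subtype with hNdef
  haveI : (N.subgroupOf M).Normal := normal_subgroupOf_of_le_normalizer le_rfl
  have hPM : P0 ≤ M := le_normalizer.trans (normalizer_map_char (center P0))
  have hRM : R ≤ M := hRP.trans (normalizer_map_char (center P0))
  set p := QuotientGroup.mk' (N.subgroupOf M) with hp
  have hker : ∀ x : M, p x = 1 ↔ (x : X) ∈ N := fun x => by
    rw [hp, QuotientGroup.mk'_apply, QuotientGroup.eq_one_iff, mem_subgroupOf]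
  have hrN : ¬ r ∣ Nat.card N := not_dvd_of_le (map_subtype_le _) hP
  have hmapR : Nat.card ((R.subgroupOf M).map p) = r := by
    have hinj : Function.Injective (p.comp (inclusion hRM)) := by
      rw [← MonoidHom.ker_eq_bot_iff, eq_bot_iff]
      intro x hx
      have hxN : (x : X) ∈ R ⊓ N := ⟨x.2, (hker _).mp hx⟩
      rw [Coprime.inf_eq_bot (coprime_of_not_dvd hr hR hrN), mem_bot] at hxN
      exact mem_bot.mpr (Subtype.ext hxN)
    have hrange : (p.comp (inclusion hRM)).range = (R.subgroupOf M).map p := by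
      rw [MonoidHom.range_comp, inclusion_range]
    rw [← hrange, ← Nat.card_congr (MonoidHom.ofInjective hinj).toEquiv, hR]
  have hnil : Group.IsNilpotent ((P0.subgroupOf M).map p) := by
    refine isNilpotent_of_fpf hr hmapR ?_ ?_
    · rintro _ ⟨b, hb, rfl⟩
      refine le_normalizer_map p (mem_map_of_mem p ?_)
      rw [mem_normalizer_iff]
      intro x
      simp only [mem_subgroupOf, Subgroup.coe_mul, Subgroup.coe_inv]
      exact mem_normalizer_iff.mp (hRP (mem_subgroupOf.mp hb)) x
    · rw [eq_bot_iff]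
      rintro _ ⟨⟨k, hk, rfl⟩, hkC⟩
      have hkP : (k : X) ∈ P0 := mem_subgroupOf.mp hk
      obtain ⟨c, hc, hcn⟩ := Coprime.exists_centralizer_mem_of_comm_mem hRP
        (coprime_of_not_dvd hr hR hP) (Or.inl (isSolvable_of_card_prime hr hR))
        (map_subtype_le _) hPM hRM hkP (fun b hb => by
          have hb' : p ⟨b, hRM hb⟩ ∈ (R.subgroupOf M).map p :=
            mem_map_of_mem p (mem_subgroupOf.mpr hb)
          have hcm : p ⟨b, hRM hb⟩ * p k = p k * p ⟨b, hRM hb⟩ :=
            mem_centralizer_iff.mp hkC _ hb'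
          have h1 : p (⟨b, hRM hb⟩ * k * (⟨b, hRM hb⟩ : M)⁻¹ * k⁻¹) = 1 := by
            simp only [map_mul, map_inv]
            rw [hcm]
            simp
          exact (hker _).mp h1)
      have hcN : c ∈ N := by
        refine ⟨⟨c, hc.1⟩, mem_center_iff.mpr fun y => Subtype.ext ?_, rfl⟩
        exact mem_centralizer_iff.mp (hcent hc) (y : X) y.2
      rw [mem_bot, hker]
      have := mul_mem hcN (inv_mem hcn)
      simpa using this
  let f : P0 →* M ⧸ N.subgroupOf M := p.comp (inclusion hPM)
  have hfr : f.range = (P0.subgroupOf M).map p := by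
    rw [MonoidHom.range_comp, inclusion_range]
  haveI : Group.IsSolvable f.range := by
    rw [hfr]
    haveI := hnil
    infer_instance
  haveI : IsMulCommutative Z := inferInstance
  haveI : Group.IsSolvable Z := Coprime.isSolvable_of_isMulCommutative
  refine Group.isSolvable_of_ker_le_range Z.subtype f.rangeRestrict ?_
  intro x hx
  rw [MonoidHom.ker_rangeRestrict, MonoidHom.mem_ker] at hx
  obtain ⟨y, hy, hyx⟩ := (hker _).mp hx
  have : y = x := Subtype.ext hyx
  exact ⟨⟨x, this ▸ hy⟩, rfl⟩

/-- Case `|C_L(R)|` odd. -/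
theorem case_odd (h : Setup r R L H) (IH : Below.{u} (Nat.card L)) (hperf : ⁅L, L⁆ = L)
    (hne : L ≠ ⊥) (hodd : ∀ N : Subgroup L, N.Normal → Odd (Nat.card N) → N = ⊥)
    (h2 : ¬ 2 ∣ Nat.card (L ⊓ centralizer (R : Set X) : Subgroup X)) : ⁅L, H⁆ = ⊥ := by
  haveI : Fact (Nat.Prime 2) := ⟨Nat.prime_two⟩
  obtain ⟨S, hS⟩ := Coprime.exists_invariant_sylow (K := L) h.hRL
    (coprime_of_not_dvd h.hr h.hR h.hL) (Or.inl (isSolvable_of_card_prime h.hr h.hR)) 2
  set S' := (S : Subgroup L).map L.subtype with hS'
  have hS'L : S' ≤ L := map_subtype_le _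
  have hS2 : IsPGroup 2 S' := S.isPGroup'.map _
  have hS'C : S' ⊓ centralizer (R : Set X) = ⊥ := by
    by_contra hb
    apply h2
    haveI := (nontrivial_iff_ne_bot _).mpr hb
    obtain ⟨n, hn0, hn⟩ := (hS2.to_le inf_le_left :
      IsPGroup 2 (S' ⊓ centralizer (R : Set X) : Subgroup X)).nontrivial_iff_card.mp inferInstance
    exact ((dvd_pow_self 2 hn0.ne').trans hn.symm.dvd).trans
      (card_dvd_of_le (inf_le_inf_right _ hS'L))
  have hSlt : Nat.card S' < Nat.card L := by
    by_contra hc
    exact two_group_proper hperf hne hS2 (eq_of_le_of_card_ge hS'L (not_lt.mp hc)).symm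
  set Y := L ⊔ H with hY
  have hRY : R ≤ normalizer (Y : Set X) := normalizer_sup h.hRL h.hRH
  have hLY : L ≤ Y := le_sup_left
  have hYL : Y ≤ normalizer (L : Set X) := sup_le le_normalizer h.hHL
  have hrY : ¬ r ∣ Nat.card Y := by
    intro hd
    have h1 : Nat.card Y ∣ Nat.card H * Nat.card L := by
      have hc : (L.subgroupOf Y).Normal := normal_subgroupOf_of_le_normalizer hYL
      have := Cores.card_sup_dvd (H.subgroupOf Y) (L.subgroupOf Y)
      rwa [← subgroupOf_sup le_sup_right hLY, show H ⊔ L = Y from sup_comm H L, subgroupOf_self,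
        card_top, Nat.card_congr (subgroupOfEquivOfLe (le_sup_right : H ≤ Y)).toEquiv,
        Nat.card_congr (subgroupOfEquivOfLe hLY).toEquiv] at this
    exact ((Nat.Prime.dvd_mul h.hr).mp (hd.trans h1)).elim h.hH h.hL
  -- minimal invariant supplements inside the normalizer of `S'`
  set F : Set (Subgroup X) := {K | K ≤ Y ⊓ normalizer (S' : Set X) ∧
    R ≤ normalizer (K : Set X) ∧ L ⊔ K = Y} with hF
  have hF0 : Y ⊓ normalizer (S' : Set X) ∈ F := by
    refine ⟨le_rfl, normalizer_inf hRY (normalizer_normalizer hS), le_antisymm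
      (sup_le hLY inf_le_left) fun y hy => ?_⟩
    let φ : MulAut L := normalizerMonoidHom L ⟨y, hYL hy⟩
    obtain ⟨l, hl⟩ := MulAction.exists_smul_eq L S
      (S.mapSurjective (f := φ.toMonoidHom) φ.surjective)
    have hn : (l : X)⁻¹ * y ∈ normalizer (S' : Set X) := by
      refine Coprime.mem_normalizer_of_map_conj ?_
      have h1 : S'.map (MulAut.conj y).toMonoidHom = S'.map (MulAut.conj (l : X)).toMonoidHom := by
        have e1 : ((S : Subgroup L).map φ.toMonoidHom).map L.subtype =
            S'.map (MulAut.conj y).toMonoidHom := by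
          rw [hS', map_map, map_map]
          congr 1
        have e2 : ((S : Subgroup L).map (MulAut.conj l).toMonoidHom).map L.subtype =
            S'.map (MulAut.conj (l : X)).toMonoidHom := by
          rw [hS', map_map, map_map]
          rfl
        rw [← e1, ← e2]
        exact congrArg (fun T : Sylow 2 L => (T : Subgroup L).map L.subtype) hl.symm
      rw [← Coprime.map_conj_map_conj, h1, map_conj_inv_cancel]
    have hy' : (l : X)⁻¹ * y ∈ Y := mul_mem (inv_mem (hLY l.2)) hy
    have hmem : (l : X) * ((l : X)⁻¹ * y) ∈ L ⊔ (Y ⊓ normalizer (S' : Set X)) :=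
      mul_mem (mem_sup_left l.2) (mem_sup_right ⟨hy', hn⟩)
    simpa using hmem
  obtain ⟨K, ⟨hKN, hRK, hLK⟩, hmin⟩ := (Set.toFinite F).exists_minimal ⟨_, hF0⟩
  have hKY : K ≤ Y := hKN.trans inf_le_left
  have hKL : K ≤ normalizer (L : Set X) := hKY.trans hYL
  have hHK : H ≤ L ⊔ K := hLK ▸ le_sup_right
  have hminimal : ∀ K₁ : Subgroup X, K₁ ≤ K → R ≤ normalizer (K₁ : Set X) →
      K ≤ normalizer (K₁ : Set X) → H ≤ L ⊔ K₁ → K₁ = K := by
    intro K₁ hle hR1 _ hH1
    refine le_antisymm hle (hmin ⟨hle.trans hKN, hR1, le_antisymm ?_ ?_⟩ hle)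
    · exact sup_le hLY (hle.trans hKY)
    · exact sup_le le_sup_left hH1
  have hKperf : ⁅K, K⁆ = K := by
    refine hminimal _ (commutator_le_self K) (normalizer_commutator hRK hRK)
      (normalizer_commutator le_normalizer le_normalizer) ?_
    set T := L ⊔ ⁅K, K⁆ with hT
    have hLT : L ≤ normalizer (T : Set X) := le_sup_left.trans le_normalizer
    have hKT : K ≤ normalizer (T : Set X) :=
      normalizer_sup hKL (normalizer_commutator le_normalizer le_normalizer)
    rw [← h.perf]
    refine (commutator_mono hHK hHK).trans (commutator_sup_sup_le hLT hKT hLT hKT ?_ ?_ ?_ ?_)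
    · exact (commutator_le_self L).trans le_sup_left
    · rw [commutator_comm]
      exact (Components.commutator_le_of_le_normalizer hKL).trans le_sup_left
    · exact (Components.commutator_le_of_le_normalizer hKL).trans le_sup_left
    · exact le_sup_right
  have hKR : ⁅K, R⁆ = K := by
    have hKRle : ⁅K, R⁆ ≤ K := by
      rw [commutator_comm]
      exact Components.commutator_le_of_le_normalizer hRK
    refine hminimal _ hKRle (normalizer_commutator hRK le_normalizer)
      (normalizer_commutator_ge_left K R) ?_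
    set T := L ⊔ ⁅K, R⁆ with hT
    have hLT : L ≤ normalizer (T : Set X) := le_sup_left.trans le_normalizer
    have hKT : K ≤ normalizer (T : Set X) :=
      normalizer_sup hKL (normalizer_commutator_ge_left K R)
    rw [← h.comm]
    refine (commutator_mono hHK le_rfl).trans (commutator_sup_le hLT hKT ?_ le_sup_right)
    rw [commutator_comm]
    exact (Components.commutator_le_of_le_normalizer h.hRL).trans le_sup_left
  have hKS : ⁅S', K⁆ = ⊥ := by
    refine IH X r R S' K ⟨h.hr, h.hR, not_dvd_of_le hS'L h.hL, not_dvd_of_le hKY hrY, hS,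
      hKN.trans inf_le_right, hRK, hKperf, hKR, ?_⟩ hSlt
    rw [hS'C]
    intro x _
    rw [mem_centralizer_iff]
    intro y hy
    rw [mem_bot.mp hy, one_mul, mul_one]
  let C : Subgroup (MulAut L) := fixingSubgroup (MulAut L) ((S : Subgroup L) : Set L)
  have hC := (S0227.result hodd S C (fun φ => by
    simp [C, mem_fixingSubgroup_iff])).2
  have hKLbot : ⁅L, K⁆ = ⊥ := by
    refine commutator_eq_bot_of_image_solvable hKL hKperf C hC fun a => ?_
    refine (mem_fixingSubgroup_iff _).mpr fun s hs => Subtype.ext ?_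
    have := Components.commute_of_commutator_eq_bot hKS (mem_map_of_mem L.subtype hs) a.2
    show (a : X) * s * (a : X)⁻¹ = s
    rw [show (a : X) * s = s * a from this.symm, mul_inv_cancel_right]
  -- `H` induces inner automorphisms from `P0`
  set D := L ⊓ centralizer (R : Set X) with hD
  set P0 := L ⊓ centralizer (D : Set X) with hP0
  have hRD : R ≤ normalizer (D : Set X) :=
    normalizer_inf h.hRL (normalizer_centralizer le_normalizer)
  have hsolv : Group.IsSolvable P0 := by
    refine isSolvable_of_central_fixed h.hr h.hR (not_dvd_of_le inf_le_left h.hL)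
      (normalizer_inf h.hRL (normalizer_centralizer hRD)) ?_
    rintro x ⟨⟨hxL, hxD⟩, hxR⟩
    rw [mem_centralizer_iff]
    rintro y ⟨-, hyD⟩
    exact (mem_centralizer_iff.mp hyD x ⟨hxL, hxR⟩).symm
  let g : P0 →* MulAut L := (MulAut.conj).comp (inclusion inf_le_left)
  refine commutator_eq_bot_of_image_solvable h.hHL h.perf g.range
    (Group.isSolvable_of_surjective g.rangeRestrict_surjective) fun a => ?_
  have haY : (a : X) ∈ L ⊔ K := hHK a.2
  obtain ⟨k, hk, l, hl, hal⟩ := mem_sup_normal hKL (sup_comm L K ▸ haY)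
  have hkl : ∀ x ∈ L, k * x = x * k := fun x hx =>
    (Components.commute_of_commutator_eq_bot hKLbot hx hk).symm
  have hlP0 : l ∈ P0 := by
    refine ⟨hl, mem_centralizer_iff.mpr fun d hd => ?_⟩
    have h1 : d * (a : X) = a * d := mem_centralizer_iff.mp (h.fixed a.2) d hd
    rw [hal] at h1
    have h2 : k * (d * l) = k * (l * d) := by
      rw [← mul_assoc, hkl d hd.1, mul_assoc, h1, mul_assoc]
    exact mul_left_cancel h2
  refine ⟨⟨l, hlP0⟩, MulEquiv.ext fun x => Subtype.ext ?_⟩
  show l * (x : X) * l⁻¹ = (a : X) * x * (a : X)⁻¹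
  rw [hal]
  calc l * (x : X) * l⁻¹ = k * (l * x * l⁻¹) * k⁻¹ := by
        rw [hkl _ (mul_mem (mul_mem hl x.2) (inv_mem hl)), mul_inv_cancel_right]
    _ = k * l * x * (k * l)⁻¹ := by simp [mul_assoc]

/-- **Lemma A.** -/
theorem lemmaA (hmod : ModuleTrivial.{u}) : ∀ (n : ℕ) (Y : Type u) [Group Y] [Finite Y] (r : ℕ)
    (R L H : Subgroup Y), Setup r R L H → Nat.card L = n → ⁅L, H⁆ = ⊥ := by
  intro n
  induction n using Nat.strong_induction_on with
  | _ n ih =>
    intro Y _ _ r R L H h hn
    have IH : Below.{u} (Nat.card L) := fun Z _ _ r R L H h hlt => ih _ (hn ▸ hlt) Z r R L H h rfl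
    by_contra hne
    have hsimple : ∀ N : Subgroup Y, N ≤ L → R ≤ normalizer (N : Set Y) →
        H ≤ normalizer (N : Set Y) → L ≤ normalizer (N : Set Y) → N = ⊥ ∨ N = L := by
      intro N hNL hR hH hL
      by_contra hc
      rw [not_or] at hc
      exact hne (trivial_of_invariant h IH hc.1 (lt_of_le_of_ne hNL hc.2) hR hH hL)
    have hLne : L ≠ ⊥ := fun hb => hne (by rw [hb, commutator_bot_left])
    rcases hsimple ⁅L, L⁆ (commutator_le_self L) (normalizer_commutator h.hRL h.hRL)
      (normalizer_commutator h.hHL h.hHL) (normalizer_commutator le_normalizer le_normalizer)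
      with hab | hperf
    · -- `L` abelian
      have habn : ∀ N : Subgroup Y, N ≤ L → L ≤ normalizer (N : Set Y) := fun N hN =>
        Components.le_normalizer_of_commutator_eq_bot
          (le_bot_iff.mp (hab ▸ commutator_mono le_rfl hN))
      by_cases hD : L ⊓ centralizer (R : Set Y) = ⊥
      · have hcard : Nat.card L ≠ 1 := fun hc => hLne (card_eq_one.mp hc)
        obtain ⟨q, hq, hqd⟩ := Nat.exists_prime_and_dvd hcard
        have hcm : ∀ x ∈ L, ∀ y ∈ L, x * y = y * x := fun x hx y hy =>
          Components.commute_of_commutator_eq_bot hab hx hy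
        let Ω : Subgroup Y :=
          { carrier := {x | x ∈ L ∧ x ^ q = 1}
            one_mem' := ⟨one_mem _, one_pow q⟩
            mul_mem' := fun {a b} ha hb => ⟨mul_mem ha.1 hb.1, by
              rw [Commute.mul_pow (hcm a ha.1 b hb.1), ha.2, hb.2, mul_one]⟩
            inv_mem' := fun {a} ha => ⟨inv_mem ha.1, by rw [inv_pow, ha.2, inv_one]⟩ }
        have hΩn : ∀ A : Subgroup Y, A ≤ normalizer (L : Set Y) → A ≤ normalizer (Ω : Set Y) := by
          intro A hA
          refine le_normalizer_iff.mpr fun a ha x hx => ?_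
          refine ⟨conj_mem_normalizer hA ha hx.1, ?_⟩
          rw [conj_pow, hx.2, mul_one, mul_inv_cancel]
        have hexp : ∀ v ∈ L, v ^ q = 1 := by
          rcases hsimple Ω (fun x hx => hx.1) (hΩn R h.hRL) (hΩn H h.hHL)
            (habn Ω fun x hx => hx.1) with hb | hb
          · exfalso
            haveI : Fact q.Prime := ⟨hq⟩
            obtain ⟨x, hx⟩ := exists_prime_orderOf_dvd_card' (G := L) q hqd
            have hxq : (x : Y) ^ q = 1 := by
              rw [← Subgroup.coe_pow, ← hx, pow_orderOf_eq_one, Subgroup.coe_one]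
            have : (x : Y) ∈ Ω := ⟨x.2, hxq⟩
            rw [hb, mem_bot] at this
            have : x = 1 := Subtype.ext this
            rw [this, orderOf_one] at hx
            exact hq.one_lt.ne hx
          · intro v hv
            rw [← hb] at hv
            exact hv.2
        exact hne (hmod Y R H L r q h.hr hq h.hR h.hH h.hL h.hRH h.hRL h.hHL h.perf h.comm hab hexp
          (fun W hW hR hH => hsimple W hW hR hH (habn W hW)) hD)
      · rcases hsimple (L ⊓ centralizer (H : Set Y)) inf_le_left
          (normalizer_inf h.hRL (normalizer_centralizer h.hRH))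
          (normalizer_inf h.hHL (normalizer_centralizer le_normalizer))
          (habn _ inf_le_left) with hb | hb
        · exact hD (le_bot_iff.mp (hb ▸ le_inf inf_le_left (le_centralizer_iff.mp h.fixed)))
        · exact hne (commutator_eq_bot_iff_le_centralizer.mpr (inf_eq_left.mp hb))
    · -- `L` perfect
      have hchar : ∀ N : Subgroup L, N.Characteristic → N = ⊥ ∨ N = ⊤ := by
        intro N hN
        haveI := hN
        have hn' := normalizer_map_char (L := L) N
        rcases hsimple (N.map L.subtype) (map_subtype_le N) (h.hRL.trans hn') (h.hHL.trans hn')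
          (le_normalizer.trans hn') with hb | hb
        · exact Or.inl ((map_eq_bot_iff_of_injective _ L.subtype_injective).mp hb)
        · exact Or.inr (map_subtype_inj.mp (hb.trans (by
            rw [← MonoidHom.range_eq_map, range_subtype])))
      have hodd := odd_normal_eq_bot hLne hperf hchar
      by_cases h2 : 2 ∣ Nat.card (L ⊓ centralizer (R : Set Y) : Subgroup Y)
      · exact hne (case_even h IH hperf hLne hsimple hodd h2)
      · exact hne (case_odd h IH hperf hLne hodd h2)

end Main

end Cfsg.Agent.H51.Flavell
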