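import Cfsg.Agent.H51.Flavell.Act

/-!
Flavell's trichotomy for a quasisimple subgroup whose conjugates under `R C_G(R)` commute, with `R`
of prime order acting coprimely on `G`.
-/

set_option autoImplicit false
set_option linter.style.haveILetI false
set_option linter.unusedSectionVars false

namespace Cfsg.Agent.H51.Flavell

open Subgroup
open scoped commutatorElement

universe u

variable {X : Type u} [Group X] [Finite X]

/-- A component of the subgroup `G`. -/
def CompIn (G L : Subgroup X) : Prop := L ≤ G ∧ Cfsg.IsComponent (L.subgroupOf G)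

/-- The layer of `G` inside the ambient group. -/
def layerIn (G : Subgroup X) : Subgroup X := (Cfsg.layer G).map G.subtype

section Layer

variable {G L L' : Subgroup X}

theorem compIn_qs (h : CompIn G L) : Cfsg.IsQuasisimple L :=
  Components.qs_congr (subgroupOfEquivOfLe h.1) h.2.2

theorem compIn_le_layerIn (h : CompIn G L) : L ≤ layerIn G := by
  rw [← Components.map_subgroupOf h.1]
  exact map_mono (Components.component_le_layer h.2)

theorem layerIn_le_iff {T : Subgroup X} : layerIn G ≤ T ↔ ∀ L, CompIn G L → L ≤ T := by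
  constructor
  · exact fun h L hL => (compIn_le_layerIn hL).trans h
  · intro h
    rw [layerIn, map_le_iff_le_comap, Components.layer_le_iff]
    intro L hL
    rw [← map_le_iff_le_comap]
    exact h _ ⟨map_subtype_le L, by rwa [subgroupOf, comap_map_eq_self_of_injective G.subtype_injective]⟩

theorem layerIn_le : layerIn G ≤ G := map_subtype_le _

theorem normalizer_layerIn : normalizer (G : Set X) ≤ normalizer (layerIn G : Set X) :=
  normalizer_map_char _

theorem compIn_commute (h : CompIn G L) (h' : CompIn G L') (hne : L ≠ L') : ⁅L, L'⁆ = ⊥ := by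
  have hb := Components.components_commute h.2 h'.2 fun he => hne (by
    rw [← Components.map_subgroupOf h.1, he, Components.map_subgroupOf h'.1])
  have := congrArg (map G.subtype) hb
  rwa [map_commutator, Components.map_subgroupOf h.1, Components.map_subgroupOf h'.1,
    Subgroup.map_bot] at this

theorem compIn_conj {g : X} (hg : g ∈ normalizer (G : Set X)) (h : CompIn G L) :
    CompIn G (L.map (MulAut.conj g).toMonoidHom) := by
  refine ⟨(map_mono h.1).trans (Coprime.map_conj_eq hg).le, ?_⟩
  have hc := Components.component_map_equiv (normalizerMonoidHom G ⟨g, hg⟩) h.2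
  have he : (L.subgroupOf G).map (normalizerMonoidHom G ⟨g, hg⟩).toMonoidHom =
      (L.map (MulAut.conj g).toMonoidHom).subgroupOf G := by
    apply map_injective G.subtype_injective
    rw [Components.map_subgroupOf ((map_mono h.1).trans (Coprime.map_conj_eq hg).le), map_map]
    conv_rhs => rw [← Components.map_subgroupOf h.1, map_map]
    congr 1
  rwa [he] at hc

theorem layerIn_le_normalizer (h : CompIn G L) : layerIn G ≤ normalizer (L : Set X) := by
  rw [layerIn_le_iff]
  intro L' h'
  by_cases he : L' = L
  · exact he ▸ le_normalizer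
  · exact Components.le_normalizer_of_commutator_eq_bot (compIn_commute h' h he)

theorem layerIn_le_normalizer_inf (h : CompIn G L) :
    layerIn G ≤ normalizer ((layerIn G ⊓ centralizer (L : Set X) : Subgroup X) : Set X) :=
  normalizer_inf le_normalizer (normalizer_centralizer (layerIn_le_normalizer h))

/-- The elements of the layer factor through a component and its centralizer. -/
theorem layerIn_decomp (h : CompIn G L) {e : X} (he : e ∈ layerIn G) :
    ∃ l ∈ L, ∃ n ∈ layerIn G ⊓ centralizer (L : Set X), e = l * n := by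
  refine mem_sup_normal ((compIn_le_layerIn h).trans (layerIn_le_normalizer_inf h))
    ((layerIn_le_iff.mpr fun L' h' => ?_) he)
  by_cases heq : L' = L
  · exact heq ▸ le_sup_left
  · exact le_sup_of_le_right (le_inf (compIn_le_layerIn h')
      (commutator_eq_bot_iff_le_centralizer.mp (compIn_commute h' h heq)))

end Layer

theorem map_inf_centralizer_le {E L : Subgroup X} {g : X} (hg : g ∈ normalizer (E : Set X)) :
    (E ⊓ centralizer (L : Set X)).map (MulAut.conj g).toMonoidHom ≤
      E ⊓ centralizer ((L.map (MulAut.conj g).toMonoidHom : Subgroup X) : Set X) := by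
  rintro _ ⟨n, ⟨hnE, hnL⟩, rfl⟩
  refine ⟨(Coprime.map_conj_eq hg).le (mem_map_of_mem _ hnE), mem_centralizer_iff.mpr ?_⟩
  rintro _ ⟨l, hl, rfl⟩
  rw [← map_mul, ← map_mul, mem_centralizer_iff.mp hnL l hl]

theorem eq_of_conj_self {L T : Subgroup X} {g : X} (h : g ∈ normalizer (L : Set X)) :
    (L ⊓ T).map (MulAut.conj g).toMonoidHom = L ⊓ T.map (MulAut.conj g).toMonoidHom := by
  rw [Subgroup.map_inf _ _ _ (MulAut.conj g).injective, Coprime.map_conj_eq h]

/-- A subgroup whose conjugates under a quasisimple `L` are equal or commute with it modulo the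
centre covers `L`. -/
theorem full {L T : Subgroup X} (hL : Cfsg.IsQuasisimple L)
    (hZ : L ⊓ centralizer (L : Set X) ≤ T) (hnc : ¬ L ⊓ T ≤ centralizer (L : Set X))
    (h : ∀ l ∈ L, T.map (MulAut.conj l).toMonoidHom = T ∨
      ⁅L ⊓ T, L ⊓ T.map (MulAut.conj l).toMonoidHom⁆ ≤ centralizer (L : Set X)) : L ≤ T := by
  set U := L ⊓ T with hU
  have hUl : ∀ l ∈ L, U.map (MulAut.conj l).toMonoidHom ≤ normalizer (U : Set X) := by
    intro l hl
    rw [hU, eq_of_conj_self (le_normalizer hl)]
    rcases h l hl with h1 | h1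
    · rw [h1]; exact le_normalizer
    · rw [le_normalizer_iff_commutator_le_right, commutator_comm]
      exact (le_inf ((commutator_mono inf_le_left inf_le_left).trans (commutator_le_self L)) h1).trans
        (le_inf inf_le_left hZ)
  set V := ⨆ l : L, U.map (MulAut.conj (l : X)).toMonoidHom with hV
  have hUV : U ≤ V := by
    refine le_trans (le_of_eq ?_) (le_iSup _ (1 : L))
    rw [Subgroup.coe_one, Coprime.map_conj_one]
  have hLV : L ≤ normalizer (V : Set X) := normalizer_iSup fun a ha l =>
    ⟨⟨a, ha⟩ * l, by rw [Coprime.map_conj_map_conj]; rfl⟩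
  rcases Components.qsSub_normal hL hLV with hle | hc
  · have hVU : V ≤ normalizer (U : Set X) := iSup_le fun l => hUl l l.2
    rcases Components.qsSub_normal hL (hle.trans hVU) with h1 | h1
    · exact h1.trans inf_le_right
    · rw [inf_eq_right.mpr (inf_le_left : U ≤ L)] at h1
      exact absurd (commutator_eq_bot_iff_le_centralizer.mp
        (commutator_comm L U ▸ h1)) hnc
  · exact absurd ((le_inf inf_le_left hUV).trans
      (commutator_eq_bot_iff_le_centralizer.mp (commutator_comm L _ ▸ hc))) hnc

/-- A diagonal fixed element over a moved component. -/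
theorem exists_diag {G R L : Subgroup X} {r : ℕ} (hr : r.Prime) (hR : Nat.card R = r)
    (hRG : R ≤ normalizer (G : Set X)) (hL : CompIn G L) (hmove : ¬ R ≤ normalizer (L : Set X))
    {l : X} (hl : l ∈ L) :
    ∃ d ∈ G ⊓ centralizer (R : Set X),
      d ∈ (⨆ a : R, L.map (MulAut.conj (a : X)).toMonoidHom) ∧
      l⁻¹ * d ∈ centralizer (L : Set X) := by
  obtain ⟨a, ha, -, hz, hpow⟩ := exists_generator hr hR
  obtain ⟨m, rfl⟩ : ∃ m, r = m + 1 := ⟨r - 1, (Nat.sub_add_cancel hr.one_lt.le).symm⟩
  let f : ℕ → X := fun i => a ^ i * l * (a ^ i)⁻¹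
  set P := ((List.range m).map fun i => f (i + 1)).prod with hP
  have hfmem : ∀ i, f i ∈ L.map (MulAut.conj (a ^ i)).toMonoidHom := fun i => ⟨l, hl, rfl⟩
  have hfcomm : ∀ i < m, ∀ x ∈ L, x * f (i + 1) = f (i + 1) * x := by
    intro i hi x hx
    have hai : a ^ (i + 1) ∈ R := pow_mem ha _
    refine Components.commute_of_commutator_eq_bot
      (compIn_commute hL (compIn_conj (hRG hai) hL) fun he => hmove ?_) hx (hfmem (i + 1))
    rw [← zpowers_eq_of_prime hr hR hai fun h1 => ?_]
    · exact zpowers_le.mpr (Coprime.mem_normalizer_of_map_conj he.symm)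
    · have hd : orderOf a = m + 1 := by rw [← Nat.card_zpowers, hz, hR]
      have := Nat.le_of_dvd (Nat.succ_pos i) (orderOf_dvd_iff_pow_eq_one.mpr h1)
      omega
  have hPC : P ∈ centralizer (L : Set X) := by
    refine list_prod_mem fun y hy => ?_
    obtain ⟨i, hi, rfl⟩ := List.mem_map.mp hy
    exact mem_centralizer_iff.mpr fun x hx => hfcomm i (List.mem_range.mp hi) x hx
  have hf0 : f 0 = l := by simp [f]
  refine ⟨f 0 * P, ⟨?_, ?_⟩, ?_, ?_⟩
  · have hG : ∀ i, f i ∈ G := fun i =>
      (compIn_conj (hRG (pow_mem ha i)) hL).1 (hfmem i)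
    refine mul_mem (hG 0) (list_prod_mem fun y hy => ?_)
    obtain ⟨i, -, rfl⟩ := List.mem_map.mp hy
    exact hG _
  · rw [← hz, zpowers_eq_closure, centralizer_closure]
    refine mem_centralizer_singleton_iff.mpr ?_
    have hshift : ∀ i, a * f i * a⁻¹ = f (i + 1) := fun i => by
      simp [f, pow_succ', mul_assoc]
    have hfr : f (m + 1) = f 0 := by simp [f, hpow]
    have h1 : (MulAut.conj a) (f 0 * P) = P * f 0 := by
      have hlist : f 0 * P = ((List.range (m + 1)).map f).prod := by
        rw [List.range_succ_eq_map, List.map_cons, List.prod_cons, List.map_map]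
        rfl
      rw [hlist, map_list_prod, List.map_map, List.range_succ, List.map_append, List.prod_append]
      simp only [List.map_cons, List.map_nil, List.prod_cons, List.prod_nil, mul_one,
        Function.comp_apply, MulAut.conj_apply, hshift, hfr]
      rw [hP]
      congr 2
      exact List.map_congr_left fun i _ => hshift i
    have h2 : P * f 0 = f 0 * P := by
      rw [hf0]
      exact (mem_centralizer_iff.mp hPC l hl).symm
    rw [h2, MulAut.conj_apply] at h1
    exact (mul_inv_eq_iff_eq_mul.mp h1).symm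
  · have hO : ∀ i, f i ∈ ⨆ b : R, L.map (MulAut.conj (b : X)).toMonoidHom := fun i =>
      le_iSup (fun b : R => L.map (MulAut.conj (b : X)).toMonoidHom) ⟨a ^ i, pow_mem ha i⟩ (hfmem i)
    refine mul_mem (hO 0) (list_prod_mem fun y hy => ?_)
    obtain ⟨i, -, rfl⟩ := List.mem_map.mp hy
    exact hO _
  · rw [hf0, inv_mul_cancel_left]
    exact hPC

/-- The hypotheses of Flavell's trichotomy. -/
structure Triple (r : ℕ) (G R K : Subgroup X) : Prop where
  hr : r.Prime
  hR : Nat.card R = r
  hrG : ¬ r ∣ Nat.card G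
  hRG : R ≤ normalizer (G : Set X)
  hKG : K ≤ G
  hK : Cfsg.IsQuasisimple K
  hcomm : ∀ g ∈ R ⊔ (G ⊓ centralizer (R : Set X)), K.map (MulAut.conj g).toMonoidHom ≠ K →
    ⁅K, K.map (MulAut.conj g).toMonoidHom⁆ = ⊥

section Triple

variable {r : ℕ} {G R K : Subgroup X}

theorem Triple.J_le (h : Triple r G R K) :
    R ⊔ (G ⊓ centralizer (R : Set X)) ≤ normalizer (G : Set X) :=
  sup_le h.hRG (inf_le_left.trans le_normalizer)

theorem Triple.eq_or_commute (h : Triple r G R K) {g g' : X}
    (hg : g ∈ R ⊔ (G ⊓ centralizer (R : Set X))) (hg' : g' ∈ R ⊔ (G ⊓ centralizer (R : Set X))) :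
    K.map (MulAut.conj g).toMonoidHom = K.map (MulAut.conj g').toMonoidHom ∨
      ⁅K.map (MulAut.conj g).toMonoidHom, K.map (MulAut.conj g').toMonoidHom⁆ = ⊥ := by
  have he : (K.map (MulAut.conj (g⁻¹ * g')).toMonoidHom).map (MulAut.conj g).toMonoidHom =
      K.map (MulAut.conj g').toMonoidHom := by
    rw [Coprime.map_conj_map_conj, mul_inv_cancel_left]
  by_cases hk : K.map (MulAut.conj (g⁻¹ * g')).toMonoidHom = K
  · left
    rw [← he, hk]
  · right
    rw [← he, ← map_conj_commutator, h.hcomm _ (mul_mem (inv_mem hg) hg') hk, Subgroup.map_bot]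

theorem Triple.conj_le_normalizer (h : Triple r G R K) {g g' : X}
    (hg : g ∈ R ⊔ (G ⊓ centralizer (R : Set X))) (hg' : g' ∈ R ⊔ (G ⊓ centralizer (R : Set X))) :
    K.map (MulAut.conj g).toMonoidHom ≤
      normalizer ((K.map (MulAut.conj g').toMonoidHom : Subgroup X) : Set X) := by
  rcases h.eq_or_commute hg hg' with he | he
  · rw [he]; exact le_normalizer
  · exact Components.le_normalizer_of_commutator_eq_bot he

/-- `K` in `C_G(R)` is a component of it. -/
theorem Triple.component_of_le (h : Triple r G R K) (hKC : K ≤ centralizer (R : Set X)) :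
    Cfsg.IsComponent (K.subgroupOf (G ⊓ centralizer (R : Set X))) := by
  set C := G ⊓ centralizer (R : Set X) with hC
  have hle : K ≤ C := le_inf h.hKG hKC
  set T := ⨆ c : C, K.map (MulAut.conj (c : X)).toMonoidHom with hT
  have hKT : K ≤ T := by
    refine le_trans (le_of_eq ?_) (le_iSup _ (1 : C))
    rw [Subgroup.coe_one, Coprime.map_conj_one]
  have hTC : T ≤ C := iSup_le fun c =>
    (map_mono hle).trans (Coprime.map_conj_eq (le_normalizer c.2)).le
  have hCT : C ≤ normalizer (T : Set X) := normalizer_iSup fun a ha c =>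
    ⟨⟨a, ha⟩ * c, by rw [Coprime.map_conj_map_conj]; rfl⟩
  have hTK : T ≤ normalizer (K : Set X) := iSup_le fun c => by
    have := h.conj_le_normalizer (mem_sup_right c.2) (one_mem _)
    rwa [Coprime.map_conj_one] at this
  refine ⟨?_, Components.qs_congr (subgroupOfEquivOfLe hle).symm h.hK⟩
  haveI : (T.subgroupOf C).Normal := (normal_subgroupOf_iff_le_normalizer hTC).mpr hCT
  have hKTs : K.subgroupOf C ≤ T.subgroupOf C := fun x hx => hKT hx
  refine Subgroup.IsSubnormal.step _ (T.subgroupOf C) hKTs ?_ ?_
  · exact (inferInstance : (T.subgroupOf C).Normal).isSubnormal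
  · rw [normal_subgroupOf_iff_le_normalizer hKTs]
    intro t ht
    rw [mem_normalizer_iff]
    intro x
    simp only [mem_subgroupOf, Subgroup.coe_mul, Subgroup.coe_inv]
    exact mem_normalizer_iff.mp (hTK (mem_subgroupOf.mp ht)) x

end Triple

end Cfsg.Agent.H51.Flavell
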