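import Cfsg.Agent.H51.Flavell.Comp
import Cfsg.Agent.Components.Fitting

/-!
Proof of Flavell's trichotomy and of the layer inclusion for `H = [H, R]`.
-/

set_option autoImplicit false
set_option linter.style.haveILetI false
set_option linter.unusedSectionVars false

namespace Cfsg.Agent.H51.Flavell

open Subgroup
open scoped commutatorElement

universe u

variable {X : Type u} [Group X] [Finite X] {r : ℕ} {G R K L : Subgroup X}

/-- The join of the conjugates of `K` under `R`. -/
def conjR (R K : Subgroup X) : Subgroup X :=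
  ⨆ a : R, K.map (MulAut.conj (a : X)).toMonoidHom

theorem le_conjR : K ≤ conjR R K := by
  refine le_trans (le_of_eq ?_) (le_iSup _ (1 : R))
  rw [Subgroup.coe_one, Coprime.map_conj_one]

theorem R_le_normalizer_conjR : R ≤ normalizer (conjR R K : Set X) :=
  normalizer_iSup fun a ha c => ⟨⟨a, ha⟩ * c, by rw [Coprime.map_conj_map_conj]; rfl⟩

theorem conjR_le {T : Subgroup X} (hK : K ≤ T) (hR : R ≤ normalizer (T : Set X)) :
    conjR R K ≤ T :=
  iSup_le fun a => (map_mono hK).trans (Coprime.map_conj_eq (hR a.2)).le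

theorem Triple.conjR_perfect (h : Triple r G R K) : ⁅conjR R K, conjR R K⁆ = conjR R K :=
  iSup_perfect fun _ => Components.qsSub_perfect (qs_map_conj h.hK _)

theorem Triple.conjR_le_normalizer (h : Triple r G R K) :
    conjR R K ≤ normalizer (K : Set X) := iSup_le fun a => by
  have := h.conj_le_normalizer (mem_sup_left a.2) (one_mem _)
  rwa [Coprime.map_conj_one] at this

theorem Triple.conjR_comm (h : Triple r G R K) (hKC : ¬ K ≤ centralizer (R : Set X)) :
    ⁅conjR R K, R⁆ = conjR R K := by
  set H0 := conjR R K with hH0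
  have hle : ⁅H0, R⁆ ≤ H0 := by
    rw [commutator_comm]
    exact Components.commutator_le_of_le_normalizer R_le_normalizer_conjR
  have hRn : R ≤ normalizer ((⁅H0, R⁆ : Subgroup X) : Set X) :=
    normalizer_commutator R_le_normalizer_conjR le_normalizer
  have hKsn : (K.subgroupOf H0).IsSubnormal :=
    ((normal_subgroupOf_iff_le_normalizer le_conjR).mpr h.conjR_le_normalizer).isSubnormal
  rcases Components.qs_subnormal_le_or_commutator_eq_bot h.hK le_conjR hKsn hle
    (normalizer_commutator_ge_left H0 R) with hKN | hc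
  · exact le_antisymm hle (conjR_le hKN hRn)
  · refine absurd (commutator_eq_bot_iff_le_centralizer.mp
      (Components.commutator_eq_bot_of_perfect (Components.qsSub_perfect h.hK) ?_)) hKC
    rw [eq_bot_iff, ← hc, commutator_comm K ⁅H0, R⁆]
    exact commutator_mono (commutator_mono le_conjR le_rfl) le_rfl

theorem Triple.setup (h : Triple r G R K) (hKC : ¬ K ≤ centralizer (R : Set X)) (hLG : L ≤ G)
    (hRL : R ≤ normalizer (L : Set X)) (hHL : conjR R K ≤ normalizer (L : Set X))
    (hfix : conjR R K ≤ centralizer ((L ⊓ centralizer (R : Set X) : Subgroup X) : Set X)) :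
    Setup r R L (conjR R K) where
  hr := h.hr
  hR := h.hR
  hL := not_dvd_of_le hLG h.hrG
  hH := not_dvd_of_le (conjR_le h.hKG h.hRG) h.hrG
  hRL := hRL
  hHL := hHL
  hRH := R_le_normalizer_conjR
  perf := h.conjR_perfect
  comm := h.conjR_comm hKC
  fixed := hfix

/-- An invariant normal subgroup of `G` not containing `K` is centralized by `K`. -/
theorem Triple.centralized (h : Triple r G R K) (hmod : ModuleTrivial.{u})
    (hKC : ¬ K ≤ centralizer (R : Set X)) (hLG : L ≤ G) (hGL : G ≤ normalizer (L : Set X))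
    (hRL : R ≤ normalizer (L : Set X)) (hKL : ¬ K ≤ L) : ⁅L, K⁆ = ⊥ := by
  set J := R ⊔ (G ⊓ centralizer (R : Set X)) with hJ
  have hJL : J ≤ normalizer (L : Set X) := sup_le hRL (inf_le_left.trans hGL)
  set H := ⨆ g : J, K.map (MulAut.conj (g : X)).toMonoidHom with hH
  have hHG : H ≤ G := iSup_le fun g =>
    (map_mono h.hKG).trans (Coprime.map_conj_eq (h.J_le g.2)).le
  have hH0 : conjR R K ≤ H := iSup_le fun a =>
    le_iSup (fun g : J => K.map (MulAut.conj (g : X)).toMonoidHom) ⟨a, mem_sup_left a.2⟩
  have hJH : J ≤ normalizer (H : Set X) := normalizer_iSup fun a ha c =>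
    ⟨⟨a, ha⟩ * c, by rw [Coprime.map_conj_map_conj]; rfl⟩
  have hHn : H ≤ normalizer ((L ⊓ H : Subgroup X) : Set X) :=
    normalizer_inf (hHG.trans hGL) le_normalizer
  have hHI : ⁅H, L ⊓ H⁆ = ⊥ := by
    refine commutator_iSup_eq_bot fun g => ?_
    have hle : K.map (MulAut.conj (g : X)).toMonoidHom ≤ H :=
      le_iSup (fun g : J => K.map (MulAut.conj (g : X)).toMonoidHom) g
    have hsn : ((K.map (MulAut.conj (g : X)).toMonoidHom).subgroupOf H).IsSubnormal :=
      ((normal_subgroupOf_iff_le_normalizer hle).mpr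
        (iSup_le fun g' => h.conj_le_normalizer g'.2 g.2)).isSubnormal
    refine (Components.qs_subnormal_le_or_commutator_eq_bot (qs_map_conj h.hK _) hle hsn
      inf_le_right hHn).resolve_left fun hc => hKL ?_
    have h1 := map_mono (f := (MulAut.conj (g : X)⁻¹).toMonoidHom) (hc.trans inf_le_left)
    rwa [map_conj_inv_cancel, Coprime.map_conj_eq (inv_mem (hJL g.2))] at h1
  have hfix : ⁅L ⊓ centralizer (R : Set X), H⁆ = ⊥ := by
    refine Components.commutator_eq_bot_of_perfect' ?_ ?_
    · exact iSup_perfect fun _ => Components.qsSub_perfect (qs_map_conj h.hK _)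
    · rw [eq_bot_iff, ← hHI, commutator_comm H (L ⊓ H)]
      refine commutator_mono (le_inf ?_ ?_) le_rfl
      · refine (commutator_mono inf_le_left le_rfl).trans ?_
        rw [commutator_comm]
        exact Components.commutator_le_of_le_normalizer (hHG.trans hGL)
      · exact Components.commutator_le_of_le_normalizer
          (((inf_le_inf_right _ hLG).trans le_sup_right).trans hJH)
  have hA := lemmaA hmod _ X r R L (conjR R K) (h.setup hKC hLG hRL ((hH0.trans hHG).trans hGL)
    (hH0.trans (le_centralizer_iff.mp (commutator_eq_bot_iff_le_centralizer.mp hfix)))) rfl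
  exact le_bot_iff.mp (hA ▸ commutator_mono le_rfl le_conjR)

theorem Triple.le_layerIn (h : Triple r G R K) (hmod : ModuleTrivial.{u})
    (hKC : ¬ K ≤ centralizer (R : Set X)) : K ≤ layerIn G := by
  by_contra hKE
  set F := (Cfsg.fittingSubgroup G).map G.subtype with hF
  have hE : ⁅layerIn G, K⁆ = ⊥ := h.centralized hmod hKC layerIn_le
    (le_normalizer.trans normalizer_layerIn) (h.hRG.trans normalizer_layerIn) hKE
  have hFn : normalizer (G : Set X) ≤ normalizer (F : Set X) := normalizer_map_char _
  have hFK : ⁅F, K⁆ = ⊥ := h.centralized hmod hKC (map_subtype_le _)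
    (le_normalizer.trans hFn) (h.hRG.trans hFn) fun hle => by
      refine Components.qsSub_not_le_of_isSolvable h.hK ?_ hle
      exact Group.isSolvable_of_surjective
        (MonoidHom.subgroupMap_surjective G.subtype (Cfsg.fittingSubgroup G))
  have back : ∀ A : Subgroup G, ⁅A.map G.subtype, K⁆ = ⊥ →
      K.subgroupOf G ≤ centralizer (A : Set G) := by
    intro A hA k hk
    rw [mem_centralizer_iff]
    intro a ha
    exact Subtype.ext (Components.commute_of_commutator_eq_bot hA (mem_map_of_mem _ ha)
      (mem_subgroupOf.mp hk))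
  have hcent : K.subgroupOf G ≤
      centralizer (Cfsg.generalizedFittingSubgroup G : Set G) := by
    rw [← commutator_eq_bot_iff_le_centralizer, commutator_comm,
      commutator_eq_bot_iff_le_centralizer, Cfsg.generalizedFittingSubgroup, sup_le_iff]
    exact ⟨le_centralizer_iff.mp (back _ hE), le_centralizer_iff.mp (back _ hFK)⟩
  have hbot : ⁅K.subgroupOf G, K.subgroupOf G⁆ = ⊥ := by
    rw [eq_bot_iff, ← (commutator_eq_bot_iff_le_centralizer.mpr hcent)]
    exact commutator_mono le_rfl (hcent.trans Components.centralizer_genFitting_le)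
  have := congrArg (map G.subtype) hbot
  rw [map_commutator, Components.map_subgroupOf h.hKG, Components.qsSub_perfect h.hK,
    Subgroup.map_bot] at this
  exact Components.qsSub_ne_bot h.hK this

theorem Triple.exists_moving (h : Triple r G R K) (hKE : K ≤ layerIn G) :
    ∃ L, CompIn G L ∧ ¬ K ≤ centralizer (L : Set X) := by
  by_contra hc
  push Not at hc
  refine Components.qsSub_ne_bot h.hK ?_
  rw [← Components.qsSub_perfect h.hK]
  refine commutator_eq_bot_iff_le_centralizer.mpr ?_
  refine le_trans ?_ (centralizer_le hKE)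
  rw [le_centralizer_iff, layerIn_le_iff]
  exact fun L hL => le_centralizer_iff.mp (hc L hL)

/-- A moved component not centralized by `K` is covered by `K`. -/
theorem Triple.covers (h : Triple r G R K) (hKE : K ≤ layerIn G) (hL : CompIn G L)
    (hKL : ¬ K ≤ centralizer (L : Set X)) (hmove : ¬ R ≤ normalizer (L : Set X)) :
    L ≤ K ⊔ (layerIn G ⊓ centralizer (L : Set X)) := by
  set N := layerIn G ⊓ centralizer (L : Set X) with hN
  set T := K ⊔ N with hT
  have hEN : layerIn G ≤ normalizer (N : Set X) := layerIn_le_normalizer_inf hL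
  have hLE : L ≤ layerIn G := compIn_le_layerIn hL
  refine full (compIn_qs hL) ((inf_le_inf_right _ hLE).trans le_sup_right) ?_ ?_
  · intro hc
    apply hKL
    intro k hk
    obtain ⟨l, hl, n, hn, rfl⟩ := layerIn_decomp hL (hKE hk)
    have hlT : l ∈ T := by
      have := mul_mem (mem_sup_left (T := N) hk) (mem_sup_right (S := K) (inv_mem hn))
      simpa using this
    exact mul_mem (hc ⟨hl, hlT⟩) hn.2
  · intro l hl
    obtain ⟨d, hd, hdO, hdn⟩ := exists_diag h.hr h.hR h.hRG hL hmove hl
    have hdE : d ∈ layerIn G :=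
      iSup_le (fun a : R => compIn_le_layerIn (compIn_conj (h.hRG a.2) hL)) hdO
    have hn1 : d⁻¹ * l ∈ layerIn G := mul_mem (inv_mem hdE) (hLE hl)
    have hn : d⁻¹ * l ∈ N := ⟨hn1, by simpa using inv_mem hdn⟩
    have hTl : T.map (MulAut.conj l).toMonoidHom = K.map (MulAut.conj d).toMonoidHom ⊔ N := by
      rw [show l = d * (d⁻¹ * l) by simp, ← Coprime.map_conj_map_conj,
        Coprime.map_conj_eq (le_normalizer (mem_sup_right hn)), Subgroup.map_sup,
        Coprime.map_conj_eq (hEN hdE)]
    by_cases hk : K.map (MulAut.conj d).toMonoidHom = K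
    · exact Or.inl (by rw [hTl, hk])
    · right
      rw [hTl]
      have hKd : K.map (MulAut.conj d).toMonoidHom ≤ layerIn G :=
        (map_mono hKE).trans (Coprime.map_conj_eq (le_normalizer hdE)).le
      refine ((commutator_mono inf_le_right inf_le_right).trans
        (commutator_sup_sup_le (hKE.trans hEN) le_normalizer (hKd.trans hEN) le_normalizer
          ?_ ?_ ?_ ?_)).trans inf_le_right
      · rw [h.hcomm d (mem_sup_right hd) hk]; exact bot_le
      · exact Components.commutator_le_of_le_normalizer (hKE.trans hEN)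
      · rw [commutator_comm]
        exact Components.commutator_le_of_le_normalizer (hKd.trans hEN)
      · exact commutator_le_self N

/-- Two commuting subgroups cannot both cover the same component. -/
theorem not_both_cover {A B : Subgroup X} (hL : CompIn G L) (hA : A ≤ layerIn G)
    (hB : B ≤ layerIn G) (hcA : L ≤ A ⊔ (layerIn G ⊓ centralizer (L : Set X)))
    (hcB : L ≤ B ⊔ (layerIn G ⊓ centralizer (L : Set X))) (hAB : ⁅A, B⁆ = ⊥) : False := by
  set N := layerIn G ⊓ centralizer (L : Set X) with hN
  have hEN : layerIn G ≤ normalizer (N : Set X) := layerIn_le_normalizer_inf hL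
  refine Components.qsSub_ne_bot (compIn_qs hL) ?_
  rw [← Components.qsSub_perfect (compIn_qs hL)]
  refine commutator_eq_bot_iff_le_centralizer.mpr ?_
  refine (le_of_eq (Components.qsSub_perfect (compIn_qs hL)).symm).trans
    (((commutator_mono hcA hcB).trans (commutator_sup_sup_le (hA.trans hEN) le_normalizer
      (hB.trans hEN) le_normalizer ?_ ?_ ?_ ?_)).trans inf_le_right)
  · rw [hAB]; exact bot_le
  · exact Components.commutator_le_of_le_normalizer (hA.trans hEN)
  · rw [commutator_comm]
    exact Components.commutator_le_of_le_normalizer (hB.trans hEN)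
  · exact commutator_le_self N

/-- An element of `R C_G(R)` keeping a covered component covered fixes `K`. -/
theorem Triple.same (h : Triple r G R K) (hKE : K ≤ layerIn G) (hL : CompIn G L)
    (hcov : L ≤ K ⊔ (layerIn G ⊓ centralizer (L : Set X))) {g : X}
    (hg : g ∈ R ⊔ (G ⊓ centralizer (R : Set X)))
    (hcov' : L.map (MulAut.conj g).toMonoidHom ≤
      K ⊔ (layerIn G ⊓ centralizer ((L.map (MulAut.conj g).toMonoidHom : Subgroup X) : Set X))) :
    K.map (MulAut.conj g).toMonoidHom = K := by
  by_contra hk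
  have hgE : g ∈ normalizer (layerIn G : Set X) := normalizer_layerIn (h.J_le hg)
  refine not_both_cover (compIn_conj (h.J_le hg) hL) hKE
    ((map_mono hKE).trans (Coprime.map_conj_eq hgE).le) hcov' ?_ (h.hcomm g hg hk)
  have h1 := map_mono (f := (MulAut.conj g).toMonoidHom) hcov
  rw [Subgroup.map_sup] at h1
  exact h1.trans (sup_le_sup_left (map_inf_centralizer_le hgE) _)

/-- The case of a single component not centralized by `K`. -/
theorem Triple.single (h : Triple r G R K) (hKE : K ≤ layerIn G) (hL : CompIn G L)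
    (honly : ∀ L', CompIn G L' → L' ≠ L → K ≤ centralizer (L' : Set X)) :
    K ≤ L ∧ (R ≤ normalizer (L : Set X) ∨ K = L) := by
  set Z := layerIn G ⊓ centralizer (layerIn G : Set X) with hZ
  have hLE : L ≤ layerIn G := compIn_le_layerIn hL
  have hZL : Z ≤ centralizer (L : Set X) := inf_le_right.trans (centralizer_le hLE)
  have hKLZ : K ≤ L ⊔ Z := by
    intro k hk
    obtain ⟨l, hl, n, hn, rfl⟩ := layerIn_decomp hL (hKE hk)
    refine mul_mem (mem_sup_left hl) (mem_sup_right ⟨hn.1, ?_⟩)
    have hall : ∀ L', CompIn G L' → L' ≤ centralizer ((Subgroup.zpowers n : Subgroup X) : Set X) := by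
      intro L' hL'
      rw [le_centralizer_iff, zpowers_le]
      by_cases he : L' = L
      · exact he ▸ hn.2
      · have h1 : l ∈ centralizer (L' : Set X) :=
          commutator_eq_bot_iff_le_centralizer.mp (compIn_commute hL hL' (Ne.symm he)) hl
        have := mul_mem (inv_mem h1) (honly L' hL' he hk)
        simpa using this
    exact le_centralizer_iff.mp (layerIn_le_iff.mpr hall) (mem_zpowers n)
  have hKL : K ≤ L := by
    have hZn : Z ≤ normalizer (L : Set X) := inf_le_left.trans (layerIn_le_normalizer hL)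
    rw [← Components.qsSub_perfect h.hK]
    refine (commutator_mono hKLZ hKLZ).trans
      (commutator_sup_sup_le le_normalizer hZn le_normalizer hZn (commutator_le_self L) ?_ ?_ ?_)
    · rw [commutator_comm]
      exact Components.commutator_le_of_le_normalizer hZn
    · exact Components.commutator_le_of_le_normalizer hZn
    · rw [commutator_eq_bot_iff_le_centralizer.mpr (inf_le_right.trans (centralizer_le inf_le_left))]
      exact bot_le
  refine ⟨hKL, ?_⟩
  by_cases hmove : R ≤ normalizer (L : Set X)
  · exact Or.inl hmove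
  right
  have hnc : ¬ K ≤ centralizer (L : Set X) := fun hc => Components.qsSub_ne_bot h.hK (by
    rw [← Components.qsSub_perfect h.hK]
    exact commutator_eq_bot_iff_le_centralizer.mpr (hc.trans (centralizer_le hKL)))
  refine le_antisymm hKL ?_
  set Z' := L ⊓ centralizer (L : Set X) with hZ'
  have hLK : L ≤ K ⊔ Z' := by
    refine full (compIn_qs hL) le_sup_right (fun hc => hnc ((le_inf hKL le_sup_left).trans hc)) ?_
    intro l hl
    obtain ⟨d, hd, -, hdn⟩ := exists_diag h.hr h.hR h.hRG hL hmove hl
    have hKl : K.map (MulAut.conj l).toMonoidHom = K.map (MulAut.conj d).toMonoidHom := by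
      conv_rhs => rw [show d = l * (l⁻¹ * d) by simp, ← Coprime.map_conj_map_conj]
      congr 1
      symm
      refine Coprime.map_conj_eq (centralizer_le_normalizer _ ?_)
      exact centralizer_le hKL hdn
    have hTl : (K ⊔ Z').map (MulAut.conj l).toMonoidHom = K.map (MulAut.conj d).toMonoidHom ⊔ Z' := by
      rw [Subgroup.map_sup, hKl, Coprime.map_conj_eq (normalizer_inf le_normalizer
        (normalizer_centralizer le_normalizer) hl)]
    by_cases hk : K.map (MulAut.conj d).toMonoidHom = K
    · exact Or.inl (by rw [hTl, hk])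
    · right
      rw [hTl]
      have hKdL : K.map (MulAut.conj d).toMonoidHom ≤ L := by
        rw [← hKl]
        exact (map_mono hKL).trans (Coprime.map_conj_eq (le_normalizer hl)).le
      have hLZ : L ≤ normalizer (Z' : Set X) :=
        normalizer_inf le_normalizer (normalizer_centralizer le_normalizer)
      refine ((commutator_mono inf_le_right inf_le_right).trans
        (commutator_sup_sup_le (hKL.trans hLZ) le_normalizer (hKdL.trans hLZ) le_normalizer
          ?_ ?_ ?_ ?_)).trans inf_le_right
      · rw [h.hcomm d (mem_sup_right hd) hk]; exact bot_le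
      · exact Components.commutator_le_of_le_normalizer (hKL.trans hLZ)
      · rw [commutator_comm]
        exact Components.commutator_le_of_le_normalizer (hKdL.trans hLZ)
      · exact commutator_le_self Z'
  have hKZ : ⁅K, Z'⁆ = ⊥ := commutator_eq_bot_iff_le_centralizer.mpr
    (hKL.trans (le_centralizer_iff.mp inf_le_right))
  have hKn : K ≤ normalizer (K : Set X) := le_normalizer
  have hZn' : Z' ≤ normalizer (K : Set X) :=
    Components.le_normalizer_of_commutator_eq_bot (commutator_comm K Z' ▸ hKZ)
  rw [← Components.qsSub_perfect (compIn_qs hL)]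
  refine (commutator_mono hLK hLK).trans
    (commutator_sup_sup_le hKn hZn' hKn hZn' (commutator_le_self K) ?_ ?_ ?_)
  · rw [hKZ]; exact bot_le
  · rw [commutator_comm, hKZ]; exact bot_le
  · rw [commutator_eq_bot_iff_le_centralizer.mpr
      (inf_le_right.trans (centralizer_le inf_le_left))]
    exact bot_le

/-- A component fixed by `R` is the only one not centralized by `K`. -/
theorem Triple.fixed_impossible (h : Triple r G R K) (hmod : ModuleTrivial.{u})
    (hKC : ¬ K ≤ centralizer (R : Set X)) (hKE : K ≤ layerIn G) (hL : CompIn G L)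
    (hKL : ¬ K ≤ centralizer (L : Set X)) (hRL : R ≤ normalizer (L : Set X))
    {L2 : Subgroup X} (hL2 : CompIn G L2) (hne : L2 ≠ L)
    (hKL2 : ¬ K ≤ centralizer (L2 : Set X)) : False := by
  have hnotle : ¬ K ≤ L := fun hc => hKL2 (hc.trans
    (commutator_eq_bot_iff_le_centralizer.mp (compIn_commute hL hL2 (Ne.symm hne))))
  have hKn : K ≤ normalizer (L : Set X) := hKE.trans (layerIn_le_normalizer hL)
  set D := L ⊓ centralizer (R : Set X) with hD
  have hDn : D ≤ normalizer (K : Set X) := by
    intro c hc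
    refine Coprime.mem_normalizer_of_map_conj ?_
    by_contra hk
    have hcomm := h.hcomm c (mem_sup_right (⟨hL.1 hc.1, hc.2⟩ : c ∈ G ⊓ centralizer (R : Set X))) hk
    apply hnotle
    rw [← Components.qsSub_perfect h.hK, commutator_le]
    intro k hk' k' hk2
    set x := c * k' * c⁻¹ * k'⁻¹ with hx
    have hxL : x ∈ L := by
      have h1 : k' * c⁻¹ * k'⁻¹ ∈ L := conj_mem_normalizer hKn hk2 (inv_mem hc.1)
      have := mul_mem hc.1 h1
      simpa [hx, mul_assoc] using this
    have hkx : k * (x * k') = x * k' * k := by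
      have h1 : x * k' = (MulAut.conj c).toMonoidHom k' := by simp [hx]
      rw [h1]
      exact Components.commute_of_commutator_eq_bot hcomm hk' (mem_map_of_mem _ hk2)
    have hone : ⁅k, x * k'⁆ = 1 := commutatorElement_eq_one_iff_mul_comm.mpr hkx
    have hkxL : ⁅k, x⁆ ∈ L := by
      rw [commutatorElement_def]
      exact mul_mem (conj_mem_normalizer hKn hk' hxL) (inv_mem hxL)
    have he : ⁅k, k'⁆ = x⁻¹ * ⁅k, x⁆⁻¹ * ⁅k, x * k'⁆ * x := by
      simp [commutatorElement_def, mul_assoc]
    rw [he, hone, mul_one]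
    exact mul_mem (mul_mem (inv_mem hxL) (inv_mem hkxL)) hxL
  have hKD : ⁅K, D⁆ = ⊥ := by
    refine Components.commutator_eq_bot_of_perfect (Components.qsSub_perfect h.hK) ?_
    rw [eq_bot_iff, ← (Components.qsSub_normal h.hK hKn).resolve_left hnotle,
      commutator_comm K (K ⊓ L)]
    refine commutator_mono (le_inf ?_ ?_) le_rfl
    · rw [commutator_comm]
      exact Components.commutator_le_of_le_normalizer hDn
    · exact (commutator_mono le_rfl inf_le_left).trans
        (Components.commutator_le_of_le_normalizer hKn)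
  have hA := lemmaA hmod _ X r R L (conjR R K) (h.setup hKC hL.1 hRL
    ((conjR_le hKE (h.hRG.trans normalizer_layerIn)).trans (layerIn_le_normalizer hL))
    (conjR_le (commutator_eq_bot_iff_le_centralizer.mp hKD)
      (normalizer_centralizer (normalizer_inf hRL (normalizer_centralizer le_normalizer))))) rfl
  exact hKL (le_centralizer_iff.mp (commutator_eq_bot_iff_le_centralizer.mp
    (le_bot_iff.mp (hA ▸ commutator_mono le_rfl le_conjR))))

/-- Flavell's trichotomy. -/
theorem Triple.trichotomy (h : Triple r G R K) (hmod : ModuleTrivial.{u})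
    (hKC : ¬ K ≤ centralizer (R : Set X)) :
    CompIn G K ∨ ∃ L, CompIn G L ∧ R ≤ normalizer (L : Set X) ∧ K ≤ L := by
  have hKE := h.le_layerIn hmod hKC
  by_cases hsing : ∃ L, CompIn G L ∧
      ∀ L', CompIn G L' → L' ≠ L → K ≤ centralizer (L' : Set X)
  · obtain ⟨L, hL, honly⟩ := hsing
    obtain ⟨hle, hR | he⟩ := h.single hKE hL honly
    · exact Or.inr ⟨L, hL, hR, hle⟩
    · exact Or.inl (he ▸ hL)
  exfalso
  push Not at hsing
  obtain ⟨L, hL, hKL⟩ := h.exists_moving hKE
  -- every component not centralized by `K` is moved, so covered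
  have hcov : ∀ L', CompIn G L' → ¬ K ≤ centralizer (L' : Set X) →
      L' ≤ K ⊔ (layerIn G ⊓ centralizer (L' : Set X)) := by
    intro L' hL' hKL'
    obtain ⟨L2, hL2, hne, hKL2⟩ := hsing L' hL'
    exact h.covers hKE hL' hKL' fun hR =>
      h.fixed_impossible hmod hKC hKE hL' hKL' hR hL2 hne hKL2
  obtain ⟨L2, hL2, hne, hKL2⟩ := hsing L hL
  have hmove : ¬ R ≤ normalizer (L : Set X) := fun hR =>
    h.fixed_impossible hmod hKC hKE hL hKL hR hL2 hne hKL2
  set O := ⨆ a : R, L.map (MulAut.conj (a : X)).toMonoidHom with hO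
  have hOE : O ≤ layerIn G := iSup_le fun a => compIn_le_layerIn (compIn_conj (h.hRG a.2) hL)
  have hEO : layerIn G ≤ normalizer (O : Set X) := normalizer_iSup fun e he a =>
    ⟨a, Coprime.map_conj_eq (layerIn_le_normalizer (compIn_conj (h.hRG a.2) hL) he)⟩
  set Dg := (G ⊓ centralizer (R : Set X)) ⊓ O with hDg
  have hDn : Dg ≤ normalizer (K : Set X) := by
    intro d hd
    refine Coprime.mem_normalizer_of_map_conj (h.same hKE hL (hcov L hL hKL) (mem_sup_right hd.1) ?_)
    rw [Coprime.map_conj_eq (layerIn_le_normalizer hL (hOE hd.2))]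
    exact hcov L hL hKL
  have hEN : layerIn G ≤ normalizer ((layerIn G ⊓ centralizer (L : Set X) : Subgroup X) : Set X) :=
    layerIn_le_normalizer_inf hL
  have hKO : K ≤ O := by
    by_contra hc
    have hKD : ⁅K, Dg⁆ = ⊥ := by
      refine Components.commutator_eq_bot_of_perfect (Components.qsSub_perfect h.hK) ?_
      rw [eq_bot_iff, ← (Components.qsSub_normal h.hK (hKE.trans hEO)).resolve_left hc,
        commutator_comm K (K ⊓ O)]
      refine commutator_mono (le_inf ?_ ?_) le_rfl
      · rw [commutator_comm]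
        exact Components.commutator_le_of_le_normalizer hDn
      · exact (commutator_mono le_rfl inf_le_right).trans
          (Components.commutator_le_of_le_normalizer (hKE.trans hEO))
    apply hKL
    refine commutator_eq_bot_iff_le_centralizer.mp
      (Components.commutator_eq_bot_of_perfect' (Components.qsSub_perfect (compIn_qs hL)) ?_)
    refine commutator_eq_bot_iff_le_centralizer.mpr ?_
    rw [commutator_le]
    intro k hk l hl
    obtain ⟨d, hd, hdO, hdn⟩ := exists_diag h.hr h.hR h.hRG hL hmove hl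
    set n := d⁻¹ * l with hn
    have hn1 : n ∈ layerIn G := mul_mem (inv_mem (hOE hdO)) (compIn_le_layerIn hL hl)
    have hnN : n ∈ layerIn G ⊓ centralizer (L : Set X) :=
      ⟨hn1, by simpa [hn] using inv_mem hdn⟩
    have hkd : k * d = d * k :=
      Components.commute_of_commutator_eq_bot hKD hk ⟨hd, hdO⟩
    have he : ⁅k, l⁆ = d * (k * n * k⁻¹ * n⁻¹) * d⁻¹ := by
      have hl' : l = d * n := by simp [hn]
      rw [hl', commutatorElement_def]
      calc k * (d * n) * k⁻¹ * (d * n)⁻¹ = (k * d) * n * k⁻¹ * (n⁻¹ * d⁻¹) := by simp [mul_assoc]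
        _ = _ := by rw [hkd]; simp [mul_assoc]
    rw [he]
    exact (conj_mem_normalizer hEN (hOE hdO)
      (mul_mem (conj_mem_normalizer hEN (hKE hk) hnN) (inv_mem hnN))).2
  obtain ⟨a, hL2a⟩ : ∃ a : R, L2 = L.map (MulAut.conj (a : X)).toMonoidHom := by
    by_contra hc
    push Not at hc
    refine hKL2 (hKO.trans (iSup_le fun a => ?_))
    exact commutator_eq_bot_iff_le_centralizer.mp
      (compIn_commute (compIn_conj (h.hRG a.2) hL) hL2 (hc a).symm)
  have ha1 : (a : X) ≠ 1 := fun h1 => hne (by rw [hL2a, h1, Coprime.map_conj_one])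
  have hRK : R ≤ normalizer (K : Set X) := by
    rw [← zpowers_eq_of_prime h.hr h.hR a.2 ha1, zpowers_le]
    exact Coprime.mem_normalizer_of_map_conj (h.same hKE hL (hcov L hL hKL) (mem_sup_left a.2)
      (hL2a ▸ hcov L2 hL2 hKL2))
  apply hKC
  refine commutator_eq_bot_iff_le_centralizer.mp
    (Components.commutator_eq_bot_of_perfect (Components.qsSub_perfect h.hK) ?_)
  refine commutator_eq_bot_iff_le_centralizer.mpr ?_
  rw [commutator_le]
  intro k hk b hb
  obtain ⟨l, hl, n, hn, hkl⟩ := layerIn_decomp hL (hKE hk)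
  obtain ⟨d, hd, hdO, hdn⟩ := exists_diag h.hr h.hR h.hRG hL hmove hl
  set N := layerIn G ⊓ centralizer (L : Set X) with hN
  set Xs := normalizer (K : Set X) ⊓ N with hXs
  have hKXs : ⁅K, Xs⁆ = ⊥ := by
    refine Components.commutator_eq_bot_of_perfect (Components.qsSub_perfect h.hK) ?_
    rw [eq_bot_iff, ← (Components.qsSub_normal h.hK (hKE.trans hEN)).resolve_left
      (fun hc => hKL (hc.trans inf_le_right)), commutator_comm K (K ⊓ N)]
    refine commutator_mono (le_inf ?_ ?_) le_rfl
    · rw [commutator_comm]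
      exact Components.commutator_le_of_le_normalizer inf_le_left
    · exact (commutator_mono le_rfl inf_le_right).trans
        (Components.commutator_le_of_le_normalizer (hKE.trans hEN))
  set x := d⁻¹ * k with hx
  have hdK : d ∈ normalizer (K : Set X) := hDn ⟨hd, hdO⟩
  have hxXs : x ∈ Xs := by
    have hx1 : x ∈ normalizer (K : Set X) := mul_mem (inv_mem hdK) (le_normalizer hk)
    have hx2 : x ∈ layerIn G := mul_mem (inv_mem (hOE hdO)) (hKE hk)
    refine ⟨hx1, hx2, ?_⟩
    have := mul_mem (inv_mem hdn) hn.2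
    simpa [hx, hkl, mul_assoc] using this
  have hxC : x ∈ centralizer (K : Set X) :=
    commutator_eq_bot_iff_le_centralizer.mp (commutator_comm K Xs ▸ hKXs) hxXs
  have hbd : b * d = d * b := mem_centralizer_iff.mp hd.2 b hb
  have he : ⁅k, b⁆ = d * (x * (b * x⁻¹ * b⁻¹)) * d⁻¹ := by
    have hbd' : d⁻¹ * b⁻¹ = b⁻¹ * d⁻¹ := by rw [← mul_inv_rev, hbd, mul_inv_rev]
    have hk' : k = d * x := by simp [hx]
    rw [hk', commutatorElement_def]
    calc d * x * b * (d * x)⁻¹ * b⁻¹ = d * x * b * x⁻¹ * (d⁻¹ * b⁻¹) := by simp [mul_assoc]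
      _ = _ := by rw [hbd']; simp [mul_assoc]
  have hn' := normalizer_centralizer (le_refl (normalizer (K : Set X)))
  rw [he]
  exact conj_mem_normalizer hn' hdK (mul_mem hxC (conj_mem_normalizer hn' (hRK hb) (inv_mem hxC)))

/-- The three possibilities, as in the printed statement. -/
theorem Triple.result (h : Triple r G R K) (hmod : ModuleTrivial.{u}) :
    (K ≤ G ⊓ centralizer (R : Set X) ∧
      Cfsg.IsComponent (K.subgroupOf (G ⊓ centralizer (R : Set X)))) ∨
    Cfsg.IsComponent (K.subgroupOf G) ∨
    ∃ L : Subgroup X, L ≤ G ∧ Cfsg.IsComponent (L.subgroupOf G) ∧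
      (∀ a ∈ R, L.map (MulAut.conj a).toMonoidHom = L) ∧ K ≤ L := by
  by_cases hKC : K ≤ centralizer (R : Set X)
  · exact Or.inl ⟨le_inf h.hKG hKC, h.component_of_le hKC⟩
  · rcases h.trichotomy hmod hKC with hK | ⟨L, hL, hR, hle⟩
    · exact Or.inr (Or.inl hK.2)
    · exact Or.inr (Or.inr ⟨L, hL.1, hL.2, fun a ha => Coprime.map_conj_eq (hR ha), hle⟩)

/-- The layer of an invariant `H = [H, R]` lies in the layer of `G`. -/
theorem layer_le_layer (hmod : ModuleTrivial.{u}) {r : ℕ} {G R H : Subgroup X} (hr : r.Prime)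
    (hR : Nat.card R = r) (hrG : ¬ r ∣ Nat.card G) (hRG : R ≤ normalizer (G : Set X))
    (hHG : H ≤ G) (hHinv : R ⊔ (G ⊓ centralizer (R : Set X)) ≤ normalizer (H : Set X))
    (hHR : ⁅H, R⁆ = H) : layerIn H ≤ layerIn G := by
  rw [layerIn_le_iff]
  intro K hK
  by_contra hKE
  have key : ∀ K', CompIn H K' → ¬ K' ≤ layerIn G → K' ≤ centralizer (R : Set X) := by
    intro K' hK' hnot
    have ht : Triple r G R K' :=
      { hr := hr, hR := hR, hrG := hrG, hRG := hRG, hKG := hK'.1.trans hHG, hK := compIn_qs hK'
        hcomm := fun g hg hne => compIn_commute hK' (compIn_conj (hHinv hg) hK') (Ne.symm hne) }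
    by_contra hKC
    rcases ht.trichotomy hmod hKC with hc | ⟨L, hL, -, hle⟩
    · exact hnot (compIn_le_layerIn hc)
    · exact hnot (hle.trans (compIn_le_layerIn hL))
  set E0 := ⨆ a : H, K.map (MulAut.conj (a : X)).toMonoidHom with hE0
  have hKE0 : K ≤ E0 := by
    refine le_trans (le_of_eq ?_) (le_iSup _ (1 : H))
    rw [Subgroup.coe_one, Coprime.map_conj_one]
  have hE0R : E0 ≤ centralizer (R : Set X) := iSup_le fun a => by
    refine key _ (compIn_conj (le_normalizer a.2) hK) fun hle => hKE ?_
    have h1 := map_mono (f := (MulAut.conj (a : X)⁻¹).toMonoidHom) hle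
    rwa [map_conj_inv_cancel,
      Coprime.map_conj_eq (normalizer_layerIn (le_normalizer (inv_mem (hHG a.2))))] at h1
  have hHE0 : H ≤ normalizer (E0 : Set X) := normalizer_iSup fun a ha c =>
    ⟨⟨a, ha⟩ * c, by rw [Coprime.map_conj_map_conj]; rfl⟩
  have hRE0 : ⁅R, E0⁆ = ⊥ :=
    commutator_comm E0 R ▸ commutator_eq_bot_iff_le_centralizer.mpr hE0R
  have h1 : ⁅⁅R, E0⁆, H⁆ = ⊥ := by rw [hRE0, commutator_bot_left]
  have h2 : ⁅⁅E0, H⁆, R⁆ = ⊥ := by
    rw [eq_bot_iff, ← hRE0, commutator_comm R E0]
    refine commutator_mono ?_ le_rfl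
    rw [commutator_comm]
    exact Components.commutator_le_of_le_normalizer hHE0
  have h3 := commutator_commutator_eq_bot_of_rotate (H₁ := H) (H₂ := R) (H₃ := E0) h1 h2
  rw [hHR] at h3
  refine Components.qsSub_ne_bot (compIn_qs hK) ?_
  rw [← Components.qsSub_perfect (compIn_qs hK), eq_bot_iff, ← h3]
  exact commutator_mono hK.1 hKE0

end Cfsg.Agent.H51.Flavell
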