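import Cfsg.Agent.H51.Flavell.Act
import Cfsg.Prelude.Def_Transfer

/-!
The coprime module lemma from the fixed point theorem of Shult type.
-/

set_option autoImplicit false
set_option linter.style.haveILetI false
set_option linter.unusedSectionVars false

namespace Cfsg.Agent.H51.Flavell

open Subgroup
open scoped commutatorElement

universe u

/-- The type of the fixed point theorem of Shult type over a prime field. -/
def ShultStatement : Prop :=
  ∀ (X : Type u) [Group X] [Finite X] (G R : Subgroup X) [G.Normal], G ⊔ R = ⊤ →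
    ∀ r : ℕ, r.Prime → Nat.card R = r → ¬ r ∣ Nat.card G →
    ∀ (p : ℕ) [Fact p.Prime] (V : Type u) [AddCommGroup V] [Module (ZMod p) V]
      [FiniteDimensional (ZMod p) V] [Nontrivial V] (ρ : Representation (ZMod p) X V),
      Function.Injective ρ →
      (∀ W : Submodule (ZMod p) V, (∀ x : X, W.map (ρ x) ≤ W) → W = ⊥ ∨ W = ⊤) →
      (∀ v : V, (∀ x ∈ R, ρ x v = v) → v = 0) →
      ⁅G, R⁆ = ⊥ ∨ ((∃ m : ℕ, r = 2 ^ m + 1) ∧ ¬ IsMulCommutative ↥⁅G, R⁆ ∧
        Cfsg.IsSpecial 2 ↥⁅G, R⁆)

theorem moduleTrivial_of_shult (hS : ShultStatement.{u}) : ModuleTrivial.{u} := by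
  intro X _ _ R H V r q hr hq hR hrH hrV hRH hRV hHV hperf hcomm hab hexp hirr hfix
  by_contra hne
  have hVne : V ≠ ⊥ := fun hb => hne (by rw [hb, commutator_bot_left])
  haveI : Fact q.Prime := ⟨hq⟩
  haveI : Nontrivial V := (nontrivial_iff_ne_bot V).mpr hVne
  letI : CommGroup V :=
    { (inferInstance : Group V) with
      mul_comm := fun a b =>
        Subtype.ext (Components.commute_of_commutator_eq_bot hab a.2 b.2) }
  letI : Module (ZMod q) (Additive V) := AddCommGroup.zmodModule fun x => by
    apply Additive.toMul.injective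
    rw [toMul_nsmul, toMul_zero]
    exact Subtype.ext (by rw [Subgroup.coe_pow, Subgroup.coe_one]; exact hexp _ x.toMul.2)
  haveI : Finite (Additive V) := Finite.of_equiv V Additive.ofMul
  haveI : FiniteDimensional (ZMod q) (Additive V) := Module.Finite.of_finite
  set A := R ⊔ H with hA
  have hAV : A ≤ normalizer (V : Set X) := sup_le hRV hHV
  let f : A →* MulAut V := (normalizerMonoidHom V).comp (inclusion hAV)
  have hf : ∀ (a : A) (v : V), ((f a v : V) : X) = a * v * (a : X)⁻¹ := fun a v => by
    simp [f, normalizerMonoidHom_apply_apply_coe]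
  set G := (H.subgroupOf A).map f.rangeRestrict with hG
  set R' := (R.subgroupOf A).map f.rangeRestrict with hR'
  haveI : (H.subgroupOf A).Normal :=
    normal_subgroupOf_of_le_normalizer (sup_le hRH le_normalizer)
  haveI : G.Normal := Subgroup.Normal.map inferInstance _ f.rangeRestrict_surjective
  have htop : G ⊔ R' = ⊤ := by
    rw [hG, hR', ← Subgroup.map_sup, ← subgroupOf_sup le_sup_right le_sup_left,
      show H ⊔ R = A from sup_comm H R, subgroupOf_self,
      map_top_of_surjective _ f.rangeRestrict_surjective]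
  have hrG : ¬ r ∣ Nat.card G := fun hd => hrH (by
    have h1 := hd.trans (card_map_dvd (H.subgroupOf A) f.rangeRestrict)
    rwa [Nat.card_congr (subgroupOfEquivOfLe (le_sup_right : H ≤ A)).toEquiv] at h1)
  have hfR : ∀ v : V, (∀ a ∈ R.subgroupOf A, f a v = v) → v = 1 := by
    intro v hv
    have : (v : X) ∈ V ⊓ centralizer (R : Set X) := by
      refine ⟨v.2, mem_centralizer_iff.mpr fun b hb => ?_⟩
      have hbA : b ∈ A := mem_sup_left hb
      have h1 := congrArg Subtype.val (hv ⟨b, hbA⟩ (mem_subgroupOf.mpr hb))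
      rw [hf] at h1
      exact mul_inv_eq_iff_eq_mul.mp h1
    rw [hfix, mem_bot] at this
    exact Subtype.ext this
  have hcardR : Nat.card R' = r := by
    have h1 : Nat.card R' ∣ r := by
      have := card_map_dvd (R.subgroupOf A) f.rangeRestrict
      rwa [Nat.card_congr (subgroupOfEquivOfLe (le_sup_left : R ≤ A)).toEquiv, hR] at this
    refine ((Nat.dvd_prime hr).mp h1).resolve_left fun h1 => hVne ?_
    rw [eq_bot_iff]
    intro v hv
    refine mem_bot.mpr (congrArg Subtype.val (hfR ⟨v, hv⟩ fun a ha => ?_))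
    have h2 : f.rangeRestrict a = 1 := by
      have := mem_map_of_mem f.rangeRestrict ha
      rwa [← hR', card_eq_one.mp h1, mem_bot] at this
    have h3 : f a = 1 := congrArg Subtype.val h2
    rw [h3]
    rfl
  have _hmod : Module (ZMod q) (Additive V) := inferInstance
  let ρ : Representation (ZMod q) f.range (Additive V) :=
    { toFun := fun φ => (MonoidHom.toAdditive (φ : MulAut V).toMonoidHom).toZModLinearMap q
      map_one' := rfl
      map_mul' := fun _ _ => rfl }
  have hρ : ∀ (φ : f.range) (v : Additive V),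
      ρ φ v = Additive.ofMul ((φ : MulAut V) v.toMul) := fun _ _ => rfl
  have hinj : Function.Injective ρ := by
    intro φ ψ hφ
    refine Subtype.ext (MulEquiv.ext fun v => ?_)
    have := LinearMap.congr_fun hφ (Additive.ofMul v)
    rw [hρ, hρ] at this
    exact Additive.ofMul.injective this
  have hirr' : ∀ W : Submodule (ZMod q) (Additive V),
      (∀ φ : f.range, W.map (ρ φ) ≤ W) → W = ⊥ ∨ W = ⊤ := by
    intro W hW
    set W' : Subgroup X := (AddSubgroup.toSubgroup' W.toAddSubgroup).map V.subtype with hW'
    have hmem : ∀ v : V, v ∈ AddSubgroup.toSubgroup' W.toAddSubgroup ↔ Additive.ofMul v ∈ W :=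
      fun v => Iff.rfl
    have hAW : A ≤ normalizer (W' : Set X) := by
      refine le_normalizer_iff.mpr fun a ha x hx => ?_
      obtain ⟨v, hv, rfl⟩ := hx
      refine ⟨f ⟨a, ha⟩ v, (hmem _).mpr ?_, hf _ _⟩
      have := hW (f.rangeRestrict ⟨a, ha⟩) (Submodule.mem_map_of_mem ((hmem v).mp hv))
      rwa [hρ] at this
    rcases hirr W' (map_subtype_le _) (le_sup_left.trans hAW) (le_sup_right.trans hAW) with hb | hb
    · left
      rw [Submodule.eq_bot_iff]
      intro v hv
      have : ((v.toMul : V) : X) ∈ W' := mem_map_of_mem V.subtype ((hmem v.toMul).mpr hv)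
      rw [hb, mem_bot] at this
      exact Additive.toMul.injective (Subtype.ext this)
    · right
      rw [Submodule.eq_top_iff']
      intro v
      have : ((v.toMul : V) : X) ∈ W' := hb.ge v.toMul.2
      obtain ⟨w, hw, hwv⟩ := this
      have : w = v.toMul := Subtype.ext hwv
      rw [this] at hw
      exact (hmem _).mp hw
  have hfix' : ∀ v : Additive V, (∀ φ ∈ R', ρ φ v = v) → v = 0 := by
    intro v hv
    refine Additive.toMul.injective (hfR v.toMul fun a ha => ?_)
    have h1 := hv _ (mem_map_of_mem f.rangeRestrict ha)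
    rw [hρ] at h1
    exact congrArg Additive.toMul h1
  have hGR : ⁅G, R'⁆ = G := by
    rw [hG, hR', ← map_commutator]
    congr 1
    apply map_injective A.subtype_injective
    rw [map_commutator, Components.map_subgroupOf le_sup_right, Components.map_subgroupOf le_sup_left,
      hcomm]
  have hGbot : G = ⊥ := by
    rcases hS f.range G R' htop r hr hcardR hrG q (Additive V) ρ hinj hirr' hfix' with h | h
    · rwa [hGR] at h
    · rw [hGR] at h
      haveI : Fact (Nat.Prime 2) := ⟨Nat.prime_two⟩
      haveI := h.2.2.1.isNilpotent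
      haveI : Group.IsPerfect G := by
        rw [Subgroup.isPerfect_iff, hG, ← map_commutator]
        congr 1
        apply map_injective A.subtype_injective
        rw [map_commutator, Components.map_subgroupOf le_sup_right, hperf]
      by_contra hb
      haveI : Nontrivial G := (nontrivial_iff_ne_bot G).mpr hb
      exact Group.IsPerfect.not_isSolvable G inferInstance
  apply hne
  rw [eq_bot_iff, commutator_le]
  intro v hv a ha
  have h2 : f.rangeRestrict ⟨a, mem_sup_right ha⟩ ∈ G :=
    mem_map_of_mem f.rangeRestrict (mem_subgroupOf.mpr ha)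
  rw [hGbot, mem_bot] at h2
  have h3 : f ⟨a, mem_sup_right ha⟩ = 1 := congrArg Subtype.val h2
  have h4 := hf ⟨a, mem_sup_right ha⟩ ⟨v, hv⟩
  rw [h3, MulAut.one_apply] at h4
  rw [mem_bot, commutatorElement_eq_one_iff_mul_comm]
  exact (eq_mul_inv_iff_mul_eq.mp h4)

end Cfsg.Agent.H51.Flavell
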