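import Cfsg.Agent.Components.Basic
import Cfsg.Agent.Coprime.Basic

/-!
Small tools for Flavell's results on prime order coprime automorphisms and components.
-/

set_option autoImplicit false

namespace Cfsg.Agent.H51.Flavell

open Subgroup
open scoped commutatorElement

variable {X : Type*} [Group X]

theorem conj_mem_normalizer {L H : Subgroup X} (h : H ≤ normalizer (L : Set X)) {a x : X}
    (ha : a ∈ H) (hx : x ∈ L) : a * x * a⁻¹ ∈ L :=
  (mem_normalizer_iff.mp (h ha) x).mp hx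

theorem normalizer_inf {A P Q : Subgroup X} (hP : A ≤ normalizer (P : Set X))
    (hQ : A ≤ normalizer (Q : Set X)) : A ≤ normalizer ((P ⊓ Q : Subgroup X) : Set X) :=
  (le_inf hP hQ).trans inf_normalizer_le_normalizer_inf

theorem normalizer_sup {A P Q : Subgroup X} (hP : A ≤ normalizer (P : Set X))
    (hQ : A ≤ normalizer (Q : Set X)) : A ≤ normalizer ((P ⊔ Q : Subgroup X) : Set X) := by
  intro a ha
  refine Coprime.mem_normalizer_of_map_conj ?_
  rw [Subgroup.map_sup, Coprime.map_conj_eq (hP ha), Coprime.map_conj_eq (hQ ha)]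

theorem normalizer_centralizer {A P : Subgroup X} (hP : A ≤ normalizer (P : Set X)) :
    A ≤ normalizer ((centralizer (P : Set X) : Subgroup X) : Set X) := by
  have key : ∀ a ∈ normalizer (P : Set X), ∀ x ∈ centralizer (P : Set X),
      a * x * a⁻¹ ∈ centralizer (P : Set X) := by
    intro a ha x hx
    rw [mem_centralizer_iff] at hx ⊢
    intro p hp
    have hp' : a⁻¹ * p * a ∈ P := (mem_normalizer_iff''.mp ha p).mp hp
    have h := congrArg (fun t => a * t * a⁻¹) (hx _ hp')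
    simpa [mul_assoc] using h
  intro a ha
  rw [mem_normalizer_iff]
  intro x
  constructor
  · exact key a (hP ha) x
  · intro h
    have := key a⁻¹ (inv_mem (hP ha)) _ h
    simpa [mul_assoc] using this

theorem normalizer_normalizer {A P : Subgroup X} (hP : A ≤ normalizer (P : Set X)) :
    A ≤ normalizer ((normalizer (P : Set X) : Subgroup X) : Set X) :=
  hP.trans le_normalizer

theorem normalizer_commutator {A P Q : Subgroup X} (hP : A ≤ normalizer (P : Set X))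
    (hQ : A ≤ normalizer (Q : Set X)) : A ≤ normalizer ((⁅P, Q⁆ : Subgroup X) : Set X) := by
  intro a ha
  refine Coprime.mem_normalizer_of_map_conj ?_
  rw [map_commutator, Coprime.map_conj_eq (hP ha), Coprime.map_conj_eq (hQ ha)]

theorem normalizer_iSup {ι : Sort*} {A : Subgroup X} {P : ι → Subgroup X}
    (h : ∀ a ∈ A, ∀ i, ∃ j, (P i).map (MulAut.conj a).toMonoidHom = P j) :
    A ≤ normalizer ((⨆ i, P i : Subgroup X) : Set X) := by
  rw [le_normalizer_iff]
  intro a ha x hx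
  have hle : (⨆ i, P i).map (MulAut.conj a).toMonoidHom ≤ ⨆ i, P i := by
    rw [Subgroup.map_iSup]
    refine iSup_le fun i => ?_
    obtain ⟨j, hj⟩ := h a ha i
    rw [hj]
    exact le_iSup P j
  have := hle (mem_map_of_mem _ hx)
  simpa using this

/-- Commutators of joins land in a common invariant subgroup. -/
theorem commutator_sup_le {A₁ A₂ B T : Subgroup X}
    (hA₁ : A₁ ≤ normalizer (T : Set X)) (hA₂ : A₂ ≤ normalizer (T : Set X))
    (h₁ : ⁅A₁, B⁆ ≤ T) (h₂ : ⁅A₂, B⁆ ≤ T) : ⁅A₁ ⊔ A₂, B⁆ ≤ T := by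
  rw [commutator_le]
  intro a ha b hb
  rw [sup_eq_closure] at ha
  have : a ∈ normalizer (T : Set X) ∧ ∀ b ∈ B, ⁅a, b⁆ ∈ T := by
    induction ha using closure_induction with
    | mem x hx =>
      rcases hx with hx | hx
      · exact ⟨hA₁ hx, fun b hb => h₁ (commutator_mem_commutator hx hb)⟩
      · exact ⟨hA₂ hx, fun b hb => h₂ (commutator_mem_commutator hx hb)⟩
    | one => exact ⟨one_mem _, fun b _ => by simp⟩
    | mul x y _ _ ihx ihy =>
      refine ⟨mul_mem ihx.1 ihy.1, fun b hb => ?_⟩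
      rw [commutatorElement_mul_left_eq_conj_mul]
      exact mul_mem ((mem_normalizer_iff.mp ihx.1 _).mp (ihy.2 b hb)) (ihx.2 b hb)
    | inv x _ ih =>
      refine ⟨inv_mem ih.1, fun b hb => ?_⟩
      have h := (mem_normalizer_iff''.mp ih.1 _).mp (inv_mem (ih.2 b hb))
      have e : ⁅x⁻¹, b⁆ = x⁻¹ * ⁅x, b⁆⁻¹ * x := by
        simp [commutatorElement_def, mul_assoc]
      rw [e]
      exact h
  exact this.2 b hb

theorem commutator_sup_le_right {A B₁ B₂ T : Subgroup X}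
    (hB₁ : B₁ ≤ normalizer (T : Set X)) (hB₂ : B₂ ≤ normalizer (T : Set X))
    (h₁ : ⁅A, B₁⁆ ≤ T) (h₂ : ⁅A, B₂⁆ ≤ T) : ⁅A, B₁ ⊔ B₂⁆ ≤ T := by
  rw [commutator_comm]
  exact commutator_sup_le hB₁ hB₂ (commutator_comm A B₁ ▸ h₁) (commutator_comm A B₂ ▸ h₂)

theorem commutator_sup_sup_le {A₁ A₂ B₁ B₂ T : Subgroup X}
    (hA₁ : A₁ ≤ normalizer (T : Set X)) (hA₂ : A₂ ≤ normalizer (T : Set X))
    (hB₁ : B₁ ≤ normalizer (T : Set X)) (hB₂ : B₂ ≤ normalizer (T : Set X))
    (h₁₁ : ⁅A₁, B₁⁆ ≤ T) (h₁₂ : ⁅A₁, B₂⁆ ≤ T) (h₂₁ : ⁅A₂, B₁⁆ ≤ T) (h₂₂ : ⁅A₂, B₂⁆ ≤ T) :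
    ⁅A₁ ⊔ A₂, B₁ ⊔ B₂⁆ ≤ T :=
  commutator_sup_le hA₁ hA₂ (commutator_sup_le_right hB₁ hB₂ h₁₁ h₁₂)
    (commutator_sup_le_right hB₁ hB₂ h₂₁ h₂₂)

theorem commutator_iSup_eq_bot {ι : Sort*} {P : ι → Subgroup X} {B : Subgroup X}
    (h : ∀ i, ⁅P i, B⁆ = ⊥) : ⁅⨆ i, P i, B⁆ = ⊥ :=
  commutator_eq_bot_iff_le_centralizer.mpr
    (iSup_le fun i => commutator_eq_bot_iff_le_centralizer.mp (h i))

/-- A join of perfect subgroups is perfect. -/
theorem iSup_perfect {ι : Sort*} {P : ι → Subgroup X} (h : ∀ i, ⁅P i, P i⁆ = P i) :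
    ⁅⨆ i, P i, ⨆ i, P i⁆ = ⨆ i, P i :=
  le_antisymm (commutator_le_self _) (iSup_le fun i =>
    (h i).ge.trans (commutator_mono (le_iSup P i) (le_iSup P i)))

theorem map_conj_commutator {A B : Subgroup X} (g : X) :
    (⁅A, B⁆).map (MulAut.conj g).toMonoidHom =
      ⁅A.map (MulAut.conj g).toMonoidHom, B.map (MulAut.conj g).toMonoidHom⁆ :=
  map_commutator A B _

theorem map_conj_inv_cancel {A : Subgroup X} (g : X) :
    (A.map (MulAut.conj g).toMonoidHom).map (MulAut.conj g⁻¹).toMonoidHom = A := by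
  rw [Coprime.map_conj_map_conj, inv_mul_cancel, Coprime.map_conj_one]

theorem qs_map_conj {A : Subgroup X} (h : Cfsg.IsQuasisimple A) (g : X) :
    Cfsg.IsQuasisimple (A.map (MulAut.conj g).toMonoidHom : Subgroup X) :=
  Components.qs_congr (A.equivMapOfInjective _ (MulAut.conj g).injective) h

/-- Membership in a normalised product. -/
theorem mem_sup_normal {H N : Subgroup X} (h : H ≤ normalizer (N : Set X)) {x : X}
    (hx : x ∈ H ⊔ N) : ∃ a ∈ H, ∃ n ∈ N, x = a * n := by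
  have hx' : x ∈ ((H ⊔ N : Subgroup X) : Set X) := hx
  rw [coe_mul_of_left_le_normalizer_right H N h] at hx'
  obtain ⟨a, ha, n, hn, rfl⟩ := Set.mem_mul.mp hx'
  exact ⟨a, ha, n, hn, rfl⟩

/-- In a group of prime order every nontrivial element generates. -/
theorem zpowers_eq_of_prime [Finite X] {R : Subgroup X} {r : ℕ} (hr : r.Prime)
    (hR : Nat.card R = r) {a : X} (ha : a ∈ R) (h1 : a ≠ 1) : zpowers a = R := by
  refine eq_of_le_of_card_ge (zpowers_le.mpr ha) ?_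
  rw [hR, Nat.card_zpowers]
  have hd : orderOf a ∣ r := hR ▸ (Nat.card_zpowers a ▸ card_dvd_of_le (zpowers_le.mpr ha))
  rcases (Nat.dvd_prime hr).mp hd with h | h
  · exact absurd (orderOf_eq_one_iff.mp h) h1
  · exact h.ge

theorem exists_generator [Finite X] {R : Subgroup X} {r : ℕ} (hr : r.Prime)
    (hR : Nat.card R = r) : ∃ a ∈ R, a ≠ 1 ∧ zpowers a = R ∧ a ^ r = 1 := by
  have hne : R ≠ ⊥ := fun hb => hr.one_lt.ne' (hR ▸ hb ▸ Subgroup.card_bot)
  obtain ⟨⟨a, ha⟩, h1'⟩ := Subgroup.ne_bot_iff_exists_ne_one.mp hne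
  have h1 : a ≠ 1 := fun h => h1' (Subtype.ext h)
  refine ⟨a, ha, h1, zpowers_eq_of_prime hr hR ha h1, ?_⟩
  have hd : orderOf a ∣ r := hR ▸ R.orderOf_dvd_natCard ha
  exact orderOf_dvd_iff_pow_eq_one.mp hd

end Cfsg.Agent.H51.Flavell
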